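import Cfsg.Agent.Lib.Transpos.QuadRack.OrthoFacts

/-!
# The automorphism group of a system of reflections on 126 points

It has order `13063680`; its commutator subgroup is `PSU(4, 3)` and centralised by `1` only.
-/

set_option autoImplicit false
set_option maxRecDepth 100000
set_option linter.style.haveILetI false
set_option Elab.async false

namespace Cfsg.Agent.Transpos.Q126

open O6 (adj I6)
open Cfsg
open scoped Matrix commutatorElement

theorem T_fix_zero : ∀ j, T 0 j = j → j = 0 ∨ ∃ a, j = p a := by decide +kernel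

theorem pair_over : ∀ j, T 0 j ≠ j → (∀ a, T (p a) j = j ↔ inF 0 a = true) → j = bq 0 ∨ j = cq 0 := by
  decide +kernel

theorem bq_fix_iff : ∀ a, T (p a) (bq 0) = bq 0 ↔ inF 0 a = true := by decide +kernel

theorem bq_off : T 0 (bq 0) ≠ bq 0 ∧ cq 0 ≠ bq 0 := by decide +kernel

theorem p_inj : ∀ a b, p a = p b → a = b := by decide +kernel

theorem p_ne_zero : ∀ a, p a ≠ 0 := by decide +kernel

/-- The automorphisms of the tables. -/
def autT : Subgroup (Equiv.Perm (Fin 126)) where
  carrier := {π | ∀ i j, π (T i j) = T (π i) (π j)}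
  mul_mem' := fun {π σ} hπ hσ i j => by
    show π (σ _) = _
    rw [hσ, hπ]
    rfl
  one_mem' := fun _ _ => rfl
  inv_mem' := fun {π} hπ i j => π.injective (by rw [hπ]; simp)

theorem mem_autT {π : Equiv.Perm (Fin 126)} : π ∈ autT ↔ ∀ i j, π (T i j) = T (π i) (π j) := Iff.rfl

theorem card_autGraph_le : Nat.card O6.autGraph ≤ 51840 := by
  have hab : ∀ z₁ z₂ : ZMod 2, z₁ ^ 2 + 1 * z₁ * z₂ + 1 * z₂ ^ 2 = 0 → z₁ = 0 ∧ z₂ = 0 := by decide
  refine (Nat.card_le_card_of_injective _ O6.toIsometry_injective).trans (le_of_eq ?_)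
  rw [Forms.card_isometryGroup (Forms.quadMinus 2 (ZMod 2) 1 1) (fun v => Forms.quadMinus_apply v),
    Forms.card_isomQ_quadMinus 2 hab, ZMod.card]
  norm_num [Finset.prod_range_succ]

/-- An automorphism fixing the generators is trivial. -/
theorem eq_one_of_fix {π : Equiv.Perm (Fin 126)} (hπ : π ∈ autT) (h0 : π 0 = 0) (hp : ∀ a, π (p a) = p a)
    (hb : π (bq 0) = bq 0) : π = 1 := by
  have key : ∀ (l : List (Fin 126 × Fin 126)) S S', (∀ i : Fin 126, S.testBit i.1 = true → π i = i) →
      genSet l S = some S' → ∀ i : Fin 126, S'.testBit i.1 = true → π i = i := by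
    intro l
    induction l with
    | nil => intro S S' hS h; rw [genSet, Option.some.injEq] at h; exact h ▸ hS
    | cons e l ih =>
      obtain ⟨i, k⟩ := e
      intro S S' hS h
      rw [genSet] at h
      split at h
      · rename_i hik
        rw [Bool.and_eq_true] at hik
        refine ih _ _ (fun m hm => ?_) h
        rw [Nat.testBit_or, Bool.or_eq_true, Nat.testBit_two_pow, decide_eq_true_eq] at hm
        rcases hm with hm | hm
        · exact hS m hm
        · rw [← Fin.ext hm, hπ, hS i hik.1, hS k hik.2]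
      · simp at h
  have hs : ∀ (l : List (Fin 45)) S, (∀ i : Fin 126, S.testBit i.1 = true → π i = i) →
      ∀ i : Fin 126, (l.foldl (fun S a => S ||| 2 ^ (p a).1) S).testBit i.1 = true → π i = i := by
    intro l
    induction l with
    | nil => exact fun S h => h
    | cons a l ih =>
      intro S hS
      refine ih _ fun i hi => ?_
      rw [Nat.testBit_or, Bool.or_eq_true, Nat.testBit_two_pow, decide_eq_true_eq] at hi
      exact hi.elim (hS i) fun e => (Fin.ext e : p a = i) ▸ hp a
  ext i : 1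
  refine key genT genStart _ (hs _ _ fun i hi => ?_) gen_ok i ?_
  · rw [Nat.testBit_or, Bool.or_eq_true, Nat.testBit_two_pow, Nat.testBit_two_pow, decide_eq_true_eq,
      decide_eq_true_eq] at hi
    rcases hi with e | e
    · exact (Fin.ext e : (0 : Fin 126) = i) ▸ h0
    · exact (Fin.ext e : bq 0 = i) ▸ hb
  · rw [Nat.testBit_two_pow_sub_one]
    exact decide_eq_true i.2

theorem card_autT_le : Nat.card autT ≤ 13063680 := by
  classical
  let S := MulAction.stabilizer (↥autT) (0 : Fin 126)
  have hS0 : ∀ g : S, g.1.1 0 = 0 := fun g => g.2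
  have hp : ∀ (g : S) a, ∃ b, g.1.1 (p a) = p b := by
    intro g a
    refine (T_fix_zero _ ?_).resolve_left fun e => p_ne_zero a (g.1.1.injective (e.trans (hS0 g).symm))
    conv_lhs => rw [← hS0 g]
    rw [← mem_autT.1 g.1.2, T_zero_p]
  choose σ hσ using hp
  have hσinj : ∀ g, Function.Injective (σ g) := fun g a b e =>
    p_inj a b (g.1.1.injective (by rw [hσ, hσ, e]))
  have hσt : ∀ g a b, σ g (t3 a b) = t3 (σ g a) (σ g b) := fun g a b => p_inj _ _ (by
    rw [← hσ, ← T_p_p, mem_autT.1 g.1.2, hσ, hσ, T_p_p])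
  have hadj : ∀ g a b, adj (σ g a) (σ g b) = adj a b := by
    have key : ∀ a b, adj a b = true ↔ t3 a b = b := fun a b => ⟨t3_adj a b, fun h => by
      by_contra hn
      exact (t3_spec a b (Bool.eq_false_iff.2 hn)).2.1 h⟩
    intro g a b
    rw [Bool.eq_iff_iff, key, key, ← hσt]
    exact (hσinj g).eq_iff
  let f : ↥S →* ↥O6.autGraph :=
    { toFun := fun g => ⟨Equiv.ofBijective (σ g) (Finite.injective_iff_bijective.1 (hσinj g)), hadj g⟩
      map_one' := Subtype.ext (Equiv.ext fun a => p_inj _ _ (hσ 1 a).symm)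
      map_mul' := fun g h => Subtype.ext (Equiv.ext fun a => p_inj _ _ ((hσ (g * h) a).symm.trans
        ((congrArg g.1.1 (hσ h a)).trans (hσ g (σ h a))))) }
  have hker : Nat.card f.ker ≤ 2 := by
    have hfix : ∀ g : f.ker, ∀ a, g.1.1.1 (p a) = p a := fun g a => by
      rw [hσ]
      exact congrArg p (Equiv.ext_iff.1 (congrArg Subtype.val (MonoidHom.mem_ker.1 g.2)) a)
    have hmem : ∀ g : f.ker, g.1.1.1 (bq 0) ∈ ({bq 0, cq 0} : Finset (Fin 126)) := by
      intro g
      rw [Finset.mem_insert, Finset.mem_singleton]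
      refine pair_over _ (fun h => bq_off.1 (g.1.1.1.injective ?_)) fun a => ?_
      · rw [mem_autT.1 g.1.1.2, hS0]; exact h
      · conv_lhs => rw [← hfix g a, ← mem_autT.1 g.1.1.2]
        rw [g.1.1.1.injective.eq_iff, bq_fix_iff]
    refine (Nat.card_le_card_of_injective (fun g : f.ker => (⟨_, hmem g⟩ : ({bq 0, cq 0} : Finset _)))
      fun g h e => ?_).trans (by rw [Nat.card_eq_fintype_card, Fintype.card_coe]; exact Finset.card_le_two)
    have e' : g.1.1.1 (bq 0) = h.1.1.1 (bq 0) := congrArg Subtype.val e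
    have h1 : (g.1.1.1)⁻¹ * h.1.1.1 = 1 := by
      refine eq_one_of_fix (mul_mem (inv_mem g.1.1.2) h.1.1.2) ?_ (fun a => ?_) ?_ <;>
        rw [Equiv.Perm.mul_apply, Equiv.Perm.inv_eq_iff_eq]
      · rw [hS0, hS0]
      · rw [hfix, hfix]
      · exact e'.symm
    exact Subtype.ext (Subtype.ext (Subtype.ext (inv_mul_eq_one.1 h1)))
  have hS : Nat.card S ≤ 2 * 51840 := by
    have h := Subgroup.card_eq_card_quotient_mul_card_subgroup f.ker
    rw [Nat.card_congr (QuotientGroup.quotientKerEquivRange f).toEquiv] at h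
    rw [h, mul_comm]
    exact Nat.mul_le_mul hker ((Subgroup.card_le_card_group _).trans card_autGraph_le)
  have h2 : S.index ≤ 126 := by
    rw [MulAction.index_stabilizer, ← Nat.card_coe_set_eq]
    exact (Finite.card_subtype_le _).trans (by rw [Nat.card_fin])
  calc Nat.card autT = Nat.card S * S.index := S.card_mul_index.symm
    _ ≤ 2 * 51840 * 126 := Nat.mul_le_mul hS h2
    _ = 13063680 := by norm_num

/-- The orthogonal group. -/
abbrev OG : Subgroup (GL I6 (ZMod 3)) := isometryGroup (ZMod 3) Q3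

/-- The action on vectors. -/
def act (g : OG) (v : I6 → ZMod 3) : I6 → ZMod 3 := ((g.1 : GL I6 (ZMod 3)) : Matrix I6 I6 (ZMod 3)) *ᵥ v

theorem act_Q (g : OG) (v : I6 → ZMod 3) : Q3 (act g v) = Q3 v := g.2 v 0

theorem act_add (g : OG) (v w : I6 → ZMod 3) : act g (v + w) = act g v + act g w := Matrix.mulVec_add _ _ _

theorem act_neg (g : OG) (v : I6 → ZMod 3) : act g (-v) = -act g v := Matrix.mulVec_neg _ _

theorem act_smul (g : OG) (c : ZMod 3) (v : I6 → ZMod 3) : act g (c • v) = c • act g v :=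
  Matrix.mulVec_smul _ _ _

theorem act_mul (g h : OG) (v : I6 → ZMod 3) : act (g * h) v = act g (act h v) := by
  simp [act, Matrix.mulVec_mulVec]

theorem act_one (v : I6 → ZMod 3) : act 1 v = v := by simp [act]

theorem act_pol (g : OG) (v w : I6 → ZMod 3) : pol (act g v) (act g w) = pol v w := by
  simp only [pol, ← act_add, act_Q]

theorem pol_smul : ∀ (v w : I6 → ZMod 3), pol v (-w) = -pol v w ∧ pol (-v) w = -pol v w := by
  intro v w
  constructor <;> simp [pol, quadFormMinus, Fin.sum_univ_two] <;> ring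

theorem exists_perm (g : OG) (i : Fin 126) : ∃ j, vec j = act g (vec i) ∨ vec j = -act g (vec i) :=
  vec_surj _ (by rw [act_Q, vec_norm])

/-- The permutation of the points. -/
noncomputable def pmap (g : OG) (i : Fin 126) : Fin 126 := (exists_perm g i).choose

theorem pmap_spec (g : OG) (i : Fin 126) :
    vec (pmap g i) = act g (vec i) ∨ vec (pmap g i) = -act g (vec i) := (exists_perm g i).choose_spec

theorem pmap_eq {g : OG} {i j : Fin 126} (h : vec j = act g (vec i) ∨ vec j = -act g (vec i)) :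
    pmap g i = j := by
  refine vec_inj _ _ ?_
  rcases pmap_spec g i with e | e <;> rcases h with h | h <;> simp [e, h]

theorem pmap_one (i : Fin 126) : pmap 1 i = i := pmap_eq (Or.inl (act_one _).symm)

theorem pmap_mul (g h : OG) (i : Fin 126) : pmap (g * h) i = pmap g (pmap h i) := by
  refine pmap_eq ?_
  rw [act_mul]
  rcases pmap_spec g (pmap h i) with e | e <;> rcases pmap_spec h i with e' | e' <;>
    simp [e, e', act_neg]

/-- The action on the points. -/
noncomputable def rho : OG →* Equiv.Perm (Fin 126) where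
  toFun g := ⟨pmap g, pmap g⁻¹, fun i => by rw [← pmap_mul, inv_mul_cancel, pmap_one],
    fun i => by rw [← pmap_mul, mul_inv_cancel, pmap_one]⟩
  map_one' := Equiv.ext pmap_one
  map_mul' g h := Equiv.ext (pmap_mul g h)

theorem rho_apply (g : OG) (i : Fin 126) : rho g i = pmap g i := rfl

theorem rho_mem (g : OG) : rho g ∈ autT := by
  intro i j
  refine pmap_eq ?_
  let R : (I6 → ZMod 3) → (I6 → ZMod 3) → (I6 → ZMod 3) := fun x y => y - pol x y • x
  let Up : (I6 → ZMod 3) → (I6 → ZMod 3) → Prop := fun x y => x = y ∨ x = -y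
  have trans : ∀ {x y z}, Up x y → Up y z → Up x z := fun {x y z} h h' => by
    rcases h with h | h <;> rcases h' with h' | h' <;> simp [Up, h, h']
  have symm : ∀ {x y}, Up x y → Up y x := fun {x y} h => by
    rcases h with h | h <;> simp [Up, h]
  have hR : ∀ {x x' y y'}, Up x x' → Up y y' → Up (R x y) (R x' y') := fun {x x' y y'} h h' => by
    rcases h with rfl | rfl <;> rcases h' with rfl | rfl
    · exact Or.inl rfl
    · refine Or.inr ?_; simp only [R, (pol_smul _ _).1, neg_smul]; abel
    · refine Or.inl ?_; simp only [R, (pol_smul _ _).2, neg_smul, smul_neg, neg_neg]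
    · refine Or.inr ?_
      simp only [R, (pol_smul _ _).1, (pol_smul _ _).2, neg_smul, smul_neg, neg_neg]; abel
  have hact : ∀ {x y}, Up x y → Up (act g x) (act g y) := fun {x y} h => by
    rcases h with rfl | rfl
    exacts [Or.inl rfl, Or.inr (act_neg _ _)]
  have hg : ∀ x y, act g (R x y) = R (act g x) (act g y) := fun x y => by
    simp only [R, sub_eq_add_neg, act_add, act_neg, act_smul, act_pol]
  exact trans (vec_T (pmap g i) (pmap g j)) (trans (hR (pmap_spec g i) (pmap_spec g j))
    (by rw [← hg]; exact hact (symm (vec_T i j))))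

/-- An element acting trivially on the points is a scalar. -/
theorem ker_scalar {g : OG} (h : rho g = 1) :
    ∃ s : ZMod 3, ∀ v, act g v = s • v := by
  have hs : ∀ i, ∃ s : ZMod 3, (s = 1 ∨ s = -1) ∧ act g (vec i) = s • vec i := fun i => by
    rcases pmap_spec g i with e | e <;> rw [← rho_apply, h, Equiv.Perm.one_apply] at e
    · exact ⟨1, Or.inl rfl, by rw [one_smul]; exact e.symm⟩
    · exact ⟨-1, Or.inr rfl, by
        conv_rhs => rw [e]
        simp⟩
  choose s hs1 hs2 using hs
  have link : ∀ i j, pol (vec i) (vec j) ≠ 0 → s i = s j := by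
    intro i j hij
    have e := act_pol g (vec i) (vec j)
    rw [hs2, hs2] at e
    rcases hs1 i with a | a <;> rcases hs1 j with b | b <;> rw [a, b] <;>
      rw [a, b] at e <;> simp only [one_smul, neg_smul, (pol_smul _ _).1, (pol_smul _ _).2] at e
    all_goals exact absurd e (by revert hij; generalize pol (vec i) (vec j) = c; revert c; decide)
  have hconst : ∀ j, s j = s 0 := fun j => by
    obtain ⟨k, h1, h2⟩ := pol_path j
    rw [← link k j h2, ← link 0 k h1]
  refine ⟨s 0, fun v => ?_⟩
  have hv : v = ∑ k, (∑ x, v x * coef x k) • vec (baseP k) := by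
    funext y
    simp only [Finset.sum_apply, Pi.smul_apply, smul_eq_mul, Finset.sum_mul]
    rw [Finset.sum_comm]
    simp only [mul_assoc, ← Finset.mul_sum, vec_basis, mul_ite, mul_one, mul_zero, Finset.sum_ite_eq',
      Finset.mem_univ, if_true]
  rw [hv]
  simp only [act, Matrix.mulVec_sum, Matrix.mulVec_smul, Finset.smul_sum]
  refine Finset.sum_congr rfl fun k _ => ?_
  rw [show (((g.1 : GL I6 (ZMod 3)) : Matrix I6 I6 (ZMod 3)) *ᵥ vec (baseP k)) = s 0 • vec (baseP k) from
    (hs2 (baseP k)).trans (by rw [hconst]), smul_comm]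

theorem eq_of_act {g h : OG} (e : ∀ v, act g v = act h v) : g = h :=
  Subtype.ext (Units.ext (Matrix.ext_of_mulVec_single fun x => e (Pi.single x 1)))

theorem card_OG : Nat.card OG = 26127360 := by
  have hab : ∀ z₁ z₂ : ZMod 3, z₁ ^ 2 + 0 * z₁ * z₂ + 1 * z₂ ^ 2 = 0 → z₁ = 0 ∧ z₂ = 0 := by decide
  rw [Forms.card_isometryGroup (Forms.quadMinus 2 (ZMod 3) 0 1) (fun v => Forms.quadMinus_apply v),
    Forms.card_isomQ_quadMinus 2 hab, ZMod.card]
  norm_num [Finset.prod_range_succ]

theorem range_rho : rho.range = autT := by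
  have hle : rho.range ≤ autT := by
    rintro _ ⟨g, rfl⟩; exact rho_mem g
  refine Subgroup.eq_of_le_of_card_ge hle (card_autT_le.trans ?_)
  have hinj : Function.Injective fun g : OG =>
      ((⟨rho g, g, rfl⟩ : rho.range), decide (act g (vec 0) = vec (rho g 0))) := by
    intro g h e
    simp only [Prod.mk.injEq, Subtype.mk.injEq, decide_eq_decide] at e
    obtain ⟨e1, e2⟩ := e
    replace e1 : rho g = rho h := congrArg Subtype.val e1
    have hk : rho (h⁻¹ * g) = 1 := by rw [map_mul, map_inv, e1, inv_mul_cancel]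
    obtain ⟨s, hs⟩ := ker_scalar hk
    have hv : act g (vec 0) = act h (vec 0) := by
      rcases pmap_spec g 0 with a | a <;> rcases pmap_spec h 0 with b | b <;>
        rw [← rho_apply] at a b <;> rw [← e1] at b e2
      · rw [← a, b]
      · exact a.symm.trans (e2.1 a.symm).symm
      · exact (e2.2 b.symm).trans b
      · exact neg_inj.1 (a.symm.trans b)
    have h1 := hs (vec 0)
    rw [act_mul, hv, ← act_mul, inv_mul_cancel, act_one] at h1
    have hne : ∃ x, vec 0 x ≠ 0 := by decide +kernel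
    obtain ⟨x, hx⟩ := hne
    have hs1 : s = 1 := by
      have := congrFun h1 x
      simp only [Pi.smul_apply, smul_eq_mul] at this
      exact mul_right_cancel₀ hx (by rw [one_mul]; exact this.symm)
    refine eq_of_act fun v => ?_
    have := congrArg (act h) (hs v)
    rwa [← act_mul, mul_inv_cancel_left, hs1, one_smul] at this
  have := Nat.card_le_card_of_injective _ hinj
  rw [card_OG, Nat.card_prod, Nat.card_eq_fintype_card (α := Bool), Fintype.card_bool] at this
  omega

theorem card_autT : Nat.card autT = 13063680 := by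
  refine le_antisymm card_autT_le ?_
  rw [← range_rho]
  have h := Subgroup.card_eq_card_quotient_mul_card_subgroup rho.ker
  rw [Nat.card_congr (QuotientGroup.quotientKerEquivRange rho).toEquiv, card_OG] at h
  have hker : Nat.card rho.ker ≤ 2 := by
    have hsc : ∀ g : rho.ker, ∃ s : ZMod 3, s ≠ 0 ∧ ∀ v, act g.1 v = s • v := fun g => by
      obtain ⟨s, hs⟩ := ker_scalar g.2
      refine ⟨s, fun e => ?_, hs⟩
      have h0 := act_Q g.1 (vec 0)
      rw [hs, e, zero_smul, vec_norm] at h0
      simp [quadFormMinus] at h0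
    choose s hs0 hs using hsc
    refine (Nat.card_le_card_of_injective (fun g => (⟨s g, hs0 g⟩ : {c : ZMod 3 // c ≠ 0}))
      fun g k e => Subtype.ext (eq_of_act fun v => by
        have e' : s g = s k := congrArg Subtype.val e; rw [hs, hs, e'])).trans (le_of_eq ?_)
    rw [Nat.card_eq_fintype_card]; decide
  have := Nat.mul_le_mul_left (Nat.card rho.range) hker
  omega

theorem commutator_autT : ⁅autT, autT⁆ = (Omega (ZMod 3) Q3).map rho := by
  rw [show Omega (ZMod 3) Q3 = commutator OG from rfl, commutator_def, Subgroup.map_commutator,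
    ← MonoidHom.range_eq_map, range_rho]

namespace QRack

variable {α : Type*} (R : QRack α)

/-- The automorphisms. -/
def autR : Subgroup (Equiv.Perm α) where
  carrier := {π | ∀ A B, π (R.t A B) = R.t (π A) (π B)}
  mul_mem' := fun {π σ} hπ hσ A B => by
    show π (σ _) = _
    rw [hσ, hπ]
    rfl
  one_mem' := fun _ _ => rfl
  inv_mem' := fun {π} hπ A B => π.injective (by rw [hπ]; simp)

theorem t_mem (A : α) : R.t A ∈ R.autR := fun B C => by
  show R.t A (R.t B C) = _
  rw [R.conj_apply, R.invol]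

theorem pair_mem {A B : α} (h : R.t A B ≠ B) : R.t A * R.t B ∈ ⁅R.autR, R.autR⁆ := by
  have hne : A ≠ B := fun e => h (e ▸ R.t_self A)
  have hb : R.t A * R.t B * R.t A = R.t B * R.t A * R.t B := by
    rw [← R.conj, ← R.conj, R.braid A B hne fun e => h (R.fix_adj e)]
  have h2 : ∀ C, R.t C * R.t C = 1 := fun C => Equiv.ext (R.invol C)
  have hi : ∀ C, (R.t C)⁻¹ = R.t C := fun C => inv_eq_of_mul_eq_one_right (h2 C)
  have e : ⁅R.t B, R.t A⁆ = R.t A * R.t B := by
    rw [commutatorElement_def, hi, hi, ← hb, mul_assoc, h2, mul_one]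
  rw [← e]
  exact Subgroup.commutator_mem_commutator (R.t_mem B) (R.t_mem A)

/-- The structure of the automorphism group. -/
theorem aut_structure {K : Type} [Field K] [Fintype K] (hK : Fintype.card K = 9) :
    Nat.card R.autR = 13063680 ∧ Nonempty (↥⁅R.autR, R.autR⁆ ≃* PSU 4 K 3) ∧
      Nat.card ↥⁅R.autR, R.autR⁆ = 3265920 ∧
      ∀ z : Equiv.Perm α, (∀ π ∈ ⁅R.autR, R.autR⁆, Commute z π) → z = 1 := by
  classical
  obtain ⟨β, hβ, hT⟩ := R.exists_model
  let e := Equiv.ofBijective β hβ
  let φ : Equiv.Perm (Fin 126) ≃* Equiv.Perm α := e.permCongrHom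
  have hφ : ∀ π A, φ π A = β (π (e.symm A)) := fun _ _ => rfl
  have hβe : ∀ A, β (e.symm A) = A := e.apply_symm_apply
  have heβ : ∀ i, e.symm (β i) = i := e.symm_apply_apply
  have hmap : R.autR = autT.map φ.toMonoidHom := by
    ext π
    constructor
    · intro hπ
      refine ⟨φ.symm π, fun i j => hβ.1 ?_, φ.apply_symm_apply π⟩
      show β (e.symm (π (β (T i j)))) = β (T (e.symm (π (β i))) (e.symm (π (β j))))
      rw [hβe, ← hT, ← hT, hβe, hβe]
      exact hπ (β i) (β j)
    · rintro ⟨σ, hσ, rfl⟩ A B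
      show φ σ (R.t A B) = R.t (φ σ A) (φ σ B)
      rw [hφ, hφ, hφ, hT, ← mem_autT.1 hσ, ← heβ (T _ _), ← hT, hβe, hβe]
  have hcomm : ⁅R.autR, R.autR⁆ = (⁅autT, autT⁆).map φ.toMonoidHom := by
    rw [hmap, Subgroup.map_commutator]
  -- centraliser
  have hcent : ∀ z : Equiv.Perm α, (∀ π ∈ ⁅R.autR, R.autR⁆, Commute z π) → z = 1 := by
    intro z hz
    have hz0 : ∀ i j, z * (R.t (β i) * R.t (β j)) = (R.t (β i) * R.t (β j)) * z := by
      intro i j
      obtain ⟨k, h1, h2⟩ := common_far i j
      have m1 := R.pair_mem (A := β i) (B := β k) (by rw [hT]; exact hβ.1.ne h1)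
      have m2 := R.pair_mem (A := β k) (B := β j) (by rw [hT]; exact hβ.1.ne h2)
      have := (hz _ (mul_mem m1 m2)).eq
      rwa [mul_assoc, ← mul_assoc (R.t (β k)), show R.t (β k) * R.t (β k) = 1 from Equiv.ext (R.invol _),
        one_mul] at this
    have happ : ∀ i j k, z (β (T i (T j k))) = R.t (β i) (R.t (β j) (z (β k))) := fun i j k => by
      rw [← hT, ← hT]
      exact Equiv.ext_iff.1 (hz0 i j) (β k)
    obtain ⟨w, hw⟩ := hβ.2 (z (β 0))
    have hw0 : w = 0 := by
      by_contra hne
      obtain ⟨a, b, hab⟩ := p_moved w hne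
      refine hab (hβ.1 ?_)
      have := happ (p a) (p b) 0
      rw [T_p_zero, T_p_zero, ← hw, hT, hT] at this
      exact this.symm
    subst hw0
    ext A
    obtain ⟨j, rfl⟩ := hβ.2 A
    rcases even_ok j with rfl | ⟨e', -, he⟩
    · exact hw.symm
    · rw [← he, happ, ← hw, hT, hT]
      rfl
  have hF3 : Fintype.card (ZMod 3) = 3 := ZMod.card 3
  have hK2 : Fintype.card K = 3 ^ 2 := by rw [hK]; norm_num
  have hab : ∀ z₁ z₂ : ZMod 3, z₁ ^ 2 + 0 * z₁ * z₂ + 1 * z₂ ^ 2 = 0 → z₁ = 0 ∧ z₂ = 0 := by decide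
  obtain ⟨eP⟩ := S0303.result hF3 hK2 (0 : ZMod 3) 1 hab
  let f : ↥(Omega (ZMod 3) Q3) →* ↥(⁅R.autR, R.autR⁆) :=
    ((φ.toMonoidHom.comp rho).comp (Omega (ZMod 3) Q3).subtype).codRestrict _ fun g => by
      rw [hcomm, commutator_autT]
      exact ⟨rho g, ⟨g, g.2, rfl⟩, rfl⟩
  have hsurj : Function.Surjective f := by
    rintro ⟨π, hπ⟩
    obtain ⟨σ, hσ, hσπ⟩ := (hcomm ▸ hπ : π ∈ (⁅autT, autT⁆).map φ.toMonoidHom)
    rw [commutator_autT] at hσ
    obtain ⟨g, hg, rfl⟩ := hσ
    exact ⟨⟨g, hg⟩, Subtype.ext hσπ⟩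
  have hker : f.ker = Subgroup.center ↥(Omega (ZMod 3) Q3) := by
    ext g
    constructor
    · intro hg
      have hg' : rho g.1 = 1 := φ.injective (by
        rw [map_one]; exact congrArg Subtype.val (MonoidHom.mem_ker.1 hg))
      obtain ⟨s, hs⟩ := ker_scalar hg'
      refine Subgroup.mem_center_iff.2 fun k => Subtype.ext (eq_of_act fun v => ?_)
      show act (k.1 * g.1) v = act (g.1 * k.1) v
      rw [act_mul, act_mul, hs, hs, act_smul]
    · intro hg
      refine MonoidHom.mem_ker.2 (Subtype.ext (hcent _ ?_))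
      intro π hπ
      obtain ⟨h, hh⟩ := hsurj ⟨π, hπ⟩
      have e : ((f h : ↥(⁅R.autR, R.autR⁆)) : Equiv.Perm α) = π := congrArg Subtype.val hh
      rw [← e]
      exact congrArg Subtype.val (((show Commute g h from (Subgroup.mem_center_iff.1 hg h).symm).map f).eq)
  let eQ : POmega (ZMod 3) Q3 ≃* ↥(⁅R.autR, R.autR⁆) :=
    (QuotientGroup.quotientMulEquivOfEq hker.symm).trans (QuotientGroup.quotientKerEquivOfSurjective f hsurj)
  have hPSU : Nat.card (PSU 4 K 3) = 3265920 := by
    have h := Forms.card_PSU_mul hK2 (n := 4) (by norm_num)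
    rw [Forms.card_GU hK2] at h
    norm_num [Finset.prod_range_succ] at h
    norm_num [Nat.even_iff] at h ⊢
    omega
  refine ⟨?_, ⟨eQ.symm.trans eP⟩, ?_, hcent⟩
  · rw [hmap, Subgroup.card_map_of_injective φ.injective, card_autT]
  · rw [Nat.card_congr (eQ.symm.trans eP).toEquiv, hPSU]

end QRack

end Cfsg.Agent.Transpos.Q126
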