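import Cfsg.Agent.Lib.Transpos.QuadRack.Model

/-!
# A large invariant set of points is one of the forty frames

Sets of the 45 points closed under third points, meeting every line in none or two points and having
at least eighteen points; a family of them permuted by the reflections contains the first frame.
-/

set_option autoImplicit false
set_option maxRecDepth 100000
set_option Elab.async false

namespace Cfsg.Agent.Transpos.Q126

open O6 (adj)

/-- Closed under third points, and each line through a point of it contains exactly one further one. -/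
structure Nice (F : Fin 45 → Prop) : Prop where
  closed : ∀ a b, F a → F b → F (t3 a b)
  rule : ∀ x y, F x → adj x y = true → x ≠ y → ∃! k, k ∈ opts x y ∧ F k

/-- Three collinear points. -/
def badTri (S : ℕ) (x y z : Fin 45) : Bool :=
  S.testBit x.1 && S.testBit y.1 && S.testBit z.1 && decide (x ≠ y) && decide (x ≠ z) &&
    decide (y ≠ z) && adj x y && adj y x && adj y y && adj z x && adj z y

mutual

/-- Validity of a derivation from the set `S`. -/
def check (S : ℕ) : Cert → Bool
  | .step a b n => S.testBit a.1 && S.testBit b.1 && check (S ||| 2 ^ (t3 a b).1) n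
  | .bad x y z => badTri S x y z
  | .frame f => decide (fr f &&& S = fr f)
  | .pick x y ks => S.testBit x.1 && decide (x ≠ y) && adj x y && checkList S (opts x y) ks
  | .extra ks =>
    decide (((List.finRange 45).filter fun k : Fin 45 => S.testBit k.1).length < 18) &&
      checkList S ((List.finRange 45).filter fun k : Fin 45 => !S.testBit k.1) ks

/-- Validity of derivations from `S` with one further point. -/
def checkList (S : ℕ) (l : List (Fin 45)) : List Cert → Bool
  | [] => l.isEmpty
  | c :: cs => match l with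
    | [] => false
    | k :: l' => check (S ||| 2 ^ k.1) c && checkList S l' cs

end

/-- A derivation without branches ending in three collinear points. -/
def badOnly : Cert → Bool
  | .step _ _ n => badOnly n
  | .bad _ _ _ => true
  | _ => false

theorem mem_or {S : ℕ} {k i : Fin 45} (h : (S ||| 2 ^ k.1).testBit i.1 = true) :
    S.testBit i.1 = true ∨ i = k := by
  rw [Nat.testBit_or, Bool.or_eq_true, Nat.testBit_two_pow, decide_eq_true_eq] at h
  exact h.imp id fun h => Fin.ext h.symm

theorem subset_or {F : Fin 45 → Prop} {S : ℕ} {k : Fin 45} (hS : ∀ i : Fin 45, S.testBit i.1 = true → F i)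
    (hk : F k) : ∀ i : Fin 45, (S ||| 2 ^ k.1).testBit i.1 = true → F i :=
  fun _ hi => (mem_or hi).elim (hS _) fun e => e ▸ hk

theorem bad_false {F : Fin 45 → Prop} (hF : Nice F) {S : ℕ} {x y z : Fin 45}
    (hS : ∀ i : Fin 45, S.testBit i.1 = true → F i) (h : badTri S x y z = true) : False := by
  simp only [badTri, Bool.and_eq_true, decide_eq_true_eq] at h
  obtain ⟨⟨⟨⟨⟨⟨⟨⟨⟨⟨hx, hy⟩, hz⟩, nxy⟩, nxz⟩, nyz⟩, axy⟩, ayx⟩, ayy⟩, azx⟩, azy⟩ := h
  obtain ⟨k, -, hk⟩ := hF.rule x y (hS x hx) axy nxy
  refine nyz ((hk y ⟨?_, hS y hy⟩).trans (hk z ⟨?_, hS z hz⟩).symm)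
  · simp [opts, Ne.symm nxy, ayx, ayy]
  · simp [opts, Ne.symm nxz, azx, azy]

theorem badOnly_false {F : Fin 45 → Prop} (hF : Nice F) : ∀ (c : Cert) (S : ℕ),
    (∀ i : Fin 45, S.testBit i.1 = true → F i) → check S c = true → badOnly c = true → False
  | .step a b n, S, hS, h, hb => by
    rw [check, Bool.and_eq_true, Bool.and_eq_true] at h
    exact badOnly_false hF n _ (subset_or hS (hF.closed a b (hS a h.1.1) (hS b h.1.2))) h.2 hb
  | .bad x y z, S, hS, h, _ => bad_false hF hS (by rwa [check] at h)
  | .frame _, _, _, _, hb => by simp [badOnly] at hb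
  | .pick _ _ _, _, _, _, hb => by simp [badOnly] at hb
  | .extra _, _, _, _, hb => by simp [badOnly] at hb

mutual

theorem check_sound {F : Fin 45 → Prop} (hF : Nice F) (h18 : 18 ≤ {k | F k}.ncard) : ∀ (c : Cert) (S : ℕ),
    (∀ i : Fin 45, S.testBit i.1 = true → F i) → check S c = true →
      ∃ f, ∀ k, inF f k = true → F k
  | .step a b n, S, hS, h => by
    rw [check, Bool.and_eq_true, Bool.and_eq_true] at h
    exact check_sound hF h18 n _ (subset_or hS (hF.closed a b (hS a h.1.1) (hS b h.1.2))) h.2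
  | .bad x y z, S, hS, h => (bad_false hF hS (by rwa [check] at h)).elim
  | .frame f, S, hS, h => by
    rw [check, decide_eq_true_eq] at h
    refine ⟨f, fun k hk => hS k ?_⟩
    rw [inF, ← h, Nat.testBit_and, Bool.and_eq_true] at hk
    exact hk.2
  | .pick x y ks, S, hS, h => by
    rw [check, Bool.and_eq_true, Bool.and_eq_true, Bool.and_eq_true, decide_eq_true_eq] at h
    obtain ⟨k, hk, -⟩ := hF.rule x y (hS x h.1.1.1) h.1.2 h.1.1.2
    exact checkList_sound hF h18 ks S _ hS h.2 k hk.1 hk.2
  | .extra ks, S, hS, h => by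
    rw [check, Bool.and_eq_true, decide_eq_true_eq] at h
    obtain ⟨k, hk, hkS⟩ : ∃ k, F k ∧ S.testBit k.1 = false := by
      by_contra hno
      push Not at hno
      have hsub : {k | F k} ⊆ ↑((List.finRange 45).filter fun k : Fin 45 => S.testBit k.1).toFinset :=
        fun k hk => by simpa using hno k hk
      have := (Set.ncard_le_ncard hsub (Finset.finite_toSet _)).trans
        ((Set.ncard_coe_finset _).le.trans (List.toFinset_card_le _))
      omega
    exact checkList_sound hF h18 ks S _ hS h.2 k (by simp [hkS]) hk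

theorem checkList_sound {F : Fin 45 → Prop} (hF : Nice F) (h18 : 18 ≤ {k | F k}.ncard) :
    ∀ (cs : List Cert) (S : ℕ) (l : List (Fin 45)), (∀ i : Fin 45, S.testBit i.1 = true → F i) →
      checkList S l cs = true → ∀ k ∈ l, F k → ∃ f, ∀ k, inF f k = true → F k
  | [], S, l, _, h => by
    rw [checkList, List.isEmpty_iff] at h
    subst h
    simp
  | c :: cs, S, [], _, h => by simp [checkList] at h
  | c :: cs, S, j :: l, hS, h => by
    rw [checkList, Bool.and_eq_true] at h
    intro k hk hFk
    rcases List.mem_cons.1 hk with rfl | hk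
    · exact check_sound hF h18 c _ (subset_or hS hFk) h.1
    · exact checkList_sound hF h18 cs S l hS h.2 k hk hFk

end

/-- The four derivations. -/
def certT (i : Fin 4) : Cert := ![cert0, cert1, cert2, cert3] i

/-- The start of a derivation. -/
def start (t : Fin 45 × Fin 45 × Fin 45) : ℕ := 2 ^ 0 ||| 2 ^ t.1.1 ||| 2 ^ t.2.1.1 ||| 2 ^ t.2.2.1

theorem cert_ok : ∀ i, check (start (canonT.getD i.1 (0, 0, 0))) (certT i) = true := by decide +kernel

theorem extra_ok : ∀ b, inF 0 b = true ∨
    ∃ e ∈ extraT, e.1 = b ∧ badOnly e.2 = true ∧ check (fr 0 ||| 2 ^ b.1) e.2 = true := by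
  decide +kernel

theorem case_ok : ∀ k₁ ∈ opts 0 15, ∀ k₂ ∈ opts 0 25, ∀ k₃ ∈ opts 0 35,
    ∃ e ∈ caseT, e.2.2.foldr t3 0 = 0 ∧
      ∀ k : Fin 45, (start (canonT.getD e.2.1.1 (0, 0, 0))).testBit k.1 = true →
        k = 0 ∨ k = e.2.2.foldr t3 k₁ ∨ k = e.2.2.foldr t3 k₂ ∨ k = e.2.2.foldr t3 k₃ := by
  decide +kernel

theorem adj_zero : adj 0 15 = true ∧ adj 0 25 = true ∧ adj 0 35 = true := by decide +kernel

variable {α : Type*} (F : α → Fin 45 → Prop) (u : Fin 45 → α → α)

/-- Transport along a path. -/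
theorem foldr_iff (hu : ∀ a B k, F (u a B) k ↔ F B (t3 a k)) (w : List (Fin 45)) (B : α) (k : Fin 45) :
    F (w.foldr u B) (w.foldr t3 k) ↔ F B k := by
  induction w with
  | nil => rfl
  | cons a w ih => rw [List.foldr_cons, List.foldr_cons, hu, t3_invol, ih]

/-- A family with a large member contains the first frame. -/
theorem exists_frame (hu : ∀ a B k, F (u a B) k ↔ F B (t3 a k)) (hN : ∀ B, Nice (F B))
    {B : α} (hB : 18 ≤ {k | F B k}.ncard) : ∃ B', ∀ k, F B' k ↔ inF 0 k = true := by
  have card : ∀ (w : List (Fin 45)) (B : α), 18 ≤ {k | F B k}.ncard → 18 ≤ {k | F (w.foldr u B) k}.ncard := by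
    intro w B h
    refine h.trans (Set.ncard_le_ncard_of_injOn (fun k => w.foldr t3 k)
      (fun k hk => (foldr_iff F u hu w B k).2 hk) ?_ (Set.toFinite _))
    intro x _ y _ e
    induction w with
    | nil => exact e
    | cons a w ih =>
      exact ih (by simpa [t3_invol] using congrArg (t3 a) e)
  -- move a point to the first
  obtain ⟨k, hk⟩ := Set.nonempty_of_ncard_ne_zero (s := {k | F B k}) (by omega)
  set w := toP.getD k.1 []
  set B₁ := w.foldr u B
  have h0 : F B₁ 0 := by
    have := (foldr_iff F u hu w B k).2 hk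
    rwa [exists_toP] at this
  have h18 : 18 ≤ {k | F B₁ k}.ncard := card w B hB
  obtain ⟨k₁, ⟨m1, f1⟩, -⟩ := (hN B₁).rule 0 15 h0 adj_zero.1 (by decide)
  obtain ⟨k₂, ⟨m2, f2⟩, -⟩ := (hN B₁).rule 0 25 h0 adj_zero.2.1 (by decide)
  obtain ⟨k₃, ⟨m3, f3⟩, -⟩ := (hN B₁).rule 0 35 h0 adj_zero.2.2 (by decide)
  obtain ⟨e, -, e0, ek⟩ := case_ok k₁ m1 k₂ m2 k₃ m3
  set B₂ := e.2.2.foldr u B₁
  obtain ⟨f, hf⟩ := check_sound (hN B₂) (card _ B₁ h18) (certT e.2.1) (start (canonT.getD e.2.1.1 (0, 0, 0)))
    (fun i hi => by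
      rcases ek i hi with rfl | rfl | rfl | rfl
      · have := (foldr_iff F u hu e.2.2 B₁ 0).2 h0; rwa [e0] at this
      all_goals exact (foldr_iff F u hu e.2.2 B₁ _).2 (by assumption))
    (cert_ok _)
  -- move the frame to the first
  suffices key : ∀ n f, (tree f).length = n → ∀ B : α, (∀ k, inF f k = true → F B k) →
      ∃ B', ∀ k, inF 0 k = true → F B' k by
    obtain ⟨B', hB'⟩ := key _ f rfl B₂ hf
    refine ⟨B', fun k => ⟨fun hk => ?_, hB' k⟩⟩
    rcases extra_ok k with h | ⟨c, -, -, hb, hc⟩
    · exact h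
    · exact (badOnly_false (hN B') c.2 _ (subset_or (fun i hi => hB' i hi) hk) hc hb).elim
  intro n
  induction n using Nat.strong_induction_on with
  | _ n ih =>
    intro f hn B hfB
    rcases tree_parent f with rfl | ⟨a, -, et, ea⟩
    · exact ⟨B, hfB⟩
    · refine ih _ ?_ (tf a f) rfl (u a B) fun k hk => (hu a B k).2 (hfB _ ?_)
      · rw [← hn, et, List.length_cons]; omega
      · have := tf_frame a (tf a f) k
        rw [ea] at this
        rwa [this]

end Cfsg.Agent.Transpos.Q126
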