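import Cfsg.Agent.Lib.Transpos.QuadRack.Model

/-!
# Further facts about the tables

Lines of the 45 points and the values of the reflection at the first point over the first frame.
-/

set_option autoImplicit false
set_option maxRecDepth 100000
set_option Elab.async false

namespace Cfsg.Agent.Transpos.Q126

open O6 (adj)

theorem adj_self : ∀ i, adj i i = true := O6.adj_refl

theorem off_count : ∀ i, ((List.finRange 45).filter fun j => !adj i j).length = 32 := by decide +kernel

theorem two_on_line : ∀ i i', adj i i' = true → i ≠ i' → ∃ j j', j ≠ j' ∧ j ≠ i ∧ j ≠ i' ∧ j' ≠ i ∧ j' ≠ i' ∧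
    adj i j = true ∧ adj i' j = true ∧ adj i j' = true ∧ adj i' j' = true ∧ adj j j' = true := by
  decide +kernel

/-- The mask of a common neighbour with two collinear points. -/
def gqMask (i i' j : Fin 45) : ℕ :=
  (O6.adjT.getD i.1 0 &&& O6.adjT.getD i'.1 0) &&& O6.adjT.getD j.1 0

theorem gq_mask : ∀ i i' j, adj i i' = true → i ≠ i' → adj i j = false →
    gqMask i i' j ≠ 0 ∧ gqMask i i' j < 2 ^ 45 ∧
      gqMask i i' j &&& (gqMask i i' j - 1) = 0 := by decide +kernel

theorem frame_pair : ∃ a b, inF 0 a = true ∧ inF 0 b = true ∧ a ≠ b ∧ adj a b = true := by decide +kernel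

theorem adjT_lt : ∀ i : Fin 45, O6.adjT.getD i.1 0 < 2 ^ 45 := by decide +kernel

theorem eq_of_two_bits {m a b : ℕ} (h : m &&& (m - 1) = 0) (ha : m.testBit a = true)
    (hb : m.testBit b = true) : a = b := by
  by_contra hne
  wlog hab : b < a generalizing a b with H
  · exact H hb ha (Ne.symm hne) (by omega)
  have h1 : (m &&& (m - 1)).testBit a = false := by rw [h, Nat.zero_testBit]
  rw [Nat.testBit_and, ha, Bool.true_and, Nat.testBit_eq_decide_div_mod_eq, decide_eq_false_iff_not] at h1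
  rw [Nat.testBit_eq_decide_div_mod_eq, decide_eq_true_eq] at ha
  have hmod : m % 2 ^ a ≠ 0 := by
    intro e
    have e2 := congrArg (fun n => n.testBit b) e
    simp only [Nat.testBit_mod_two_pow, hab, hb, decide_true, Bool.and_true, Bool.true_and,
      Nat.zero_testBit, Bool.true_eq_false] at e2
  refine h1 ?_
  have hd := Nat.div_add_mod m (2 ^ a)
  have hlt : m % 2 ^ a < 2 ^ a := Nat.mod_lt _ (by positivity)
  rw [show m - 1 = (m % 2 ^ a - 1) + 2 ^ a * (m / 2 ^ a) by omega,
    Nat.add_mul_div_left _ _ (by positivity), Nat.div_eq_of_lt (by omega), zero_add]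
  exact ha

/-- Classification of the points for the reflection at the first point over the first frame. -/
theorem model_bq : (T (bq 0) 0 = cq 0 ∧ T (bq 0) (cq 0) = 0 ∧ T (bq 0) (bq 0) = bq 0) ∧
    (∀ a, inF 0 a = true → T (bq 0) (p a) = p a) ∧
    (∀ a, inF 0 a = false → T (bq 0) (p a) = T (p a) (bq 0) ∧
      T (bq 0) (T (p a) (bq 0)) = p a ∧
      T (bq 0) (T 0 (T (p a) (bq 0))) = T 0 (T (p a) (bq 0))) ∧
    (∀ e ∈ twoT, inF 0 e.1 = false ∧ inF 0 e.2 = false ∧ inF 0 (t3 e.1 e.2) = false ∧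
      T (bq 0) (T (p e.1) (T (p e.2) (bq 0))) = T (p e.1) (T (p (t3 e.1 e.2)) (bq 0))) := by
  decide +kernel

theorem cover_bq : ∀ j : Fin 126, j = 0 ∨ j = cq 0 ∨ j = bq 0 ∨ (∃ a, j = p a) ∨
    (∃ a, inF 0 a = false ∧ j = T (p a) (bq 0)) ∨ (∃ a, inF 0 a = false ∧ j = T 0 (T (p a) (bq 0))) ∨
    ∃ e ∈ twoT, j = T (p e.1) (T (p e.2) (bq 0)) := by decide +kernel

/-- The set of points reached by a list of conjugations. -/
def genSet : List (Fin 126 × Fin 126) → ℕ → Option ℕ
  | [], S => some S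
  | (i, k) :: l, S => if S.testBit i.1 && S.testBit k.1 then genSet l (S ||| 2 ^ (T i k).1) else none

/-- The points known at the start. -/
def genStart : ℕ := (List.finRange 45).foldl (fun S a => S ||| 2 ^ (p a).1) (2 ^ 0 ||| 2 ^ (bq 0).1)

theorem gen_ok : genSet genT genStart = some (2 ^ 126 - 1) := by decide +kernel

theorem gen_conj : ∀ e ∈ genT, ∀ j, T (T e.1 e.2) j = T e.1 (T e.2 (T e.1 j)) := by decide +kernel

theorem label_cases : ∀ j : Fin 126, j = 0 ∨ (∃ a, j = p a) ∨ (∃ f, j = bq f) ∨ ∃ f, j = cq f := by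
  decide +kernel

end Cfsg.Agent.Transpos.Q126
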