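import Cfsg.Agent.Lib.Transpos.QuadRack.Model

/-!
# The signs are unique up to one bit

A rule of signs on pairs of a point and a frame that vanishes on the pairs of incidence and along the
paths from the first frame and respects conjugation is a multiple of the sign of the model.
-/

set_option autoImplicit false
set_option maxRecDepth 100000
set_option Elab.async false

namespace Cfsg.Agent.Transpos.Q126

/-- A pair as a number. -/
def key (a : Fin 45) (f : Fin 40) : ℕ := a.1 * 40 + f.1

/-- Pairs with sign zero at the start. -/
def initOK (a : Fin 45) (f : Fin 40) : Bool :=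
  inF f a || (decide ((tree f).head? = some a) && decide (tree f = a :: tree (tf a f))) ||
    (decide ((tree (tf a f)).head? = some a) && decide (tree (tf a f) = a :: tree f))

/-- The set of pairs known at the start. -/
def initSet : ℕ :=
  ((List.finRange 45).foldl (fun S a => (List.finRange 40).foldl
    (fun S f => if initOK a f then S ||| 2 ^ key a f else S) S) (2 ^ key 1 35))

/-- One derivation step. -/
def stepSet : ℕ → List (Fin 45 × Fin 45 × Fin 40 × Fin 4) → Option ℕ
  | S, [] => some S
  | S, (a, b, f, i) :: l =>
    let ks : Fin 4 → Fin 45 × Fin 40 :=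
      ![(t3 a b, f), (a, f), (b, tf a f), (a, tf b (tf a f))]
    if ((List.finRange 4).all fun j => decide (j = i) || S.testBit (key (ks j).1 (ks j).2)) &&
        (dM (t3 a b) f == (dM a f ^^ (dM b (tf a f) ^^ dM a (tf b (tf a f))))) then
      stepSet (S ||| 2 ^ key (ks i).1 (ks i).2) l
    else none

/-- All steps. -/
def steps : List (Fin 45 × Fin 45 × Fin 40 × Fin 4) := stepT0 ++ stepT1 ++ stepT2 ++ stepT3 ++ stepT4

theorem steps_ok : stepSet initSet steps = some (2 ^ 1800 - 1) := by decide +kernel

theorem init_dM : ∀ a f, initOK a f = true → dM a f = false := by decide +kernel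

theorem tf_invol : ∀ a f, tf a (tf a f) = f := by decide +kernel

theorem free_dM : dM 1 35 = true := by decide +kernel

theorem key_inj : ∀ {a b : Fin 45} {f g : Fin 40}, key a f = key b g → a = b ∧ f = g := by
  intro a b f g h
  simp only [key] at h
  have := f.isLt; have := g.isLt
  exact ⟨Fin.ext (by omega), Fin.ext (by omega)⟩

theorem key_lt (a : Fin 45) (f : Fin 40) : key a f < 1800 := by
  simp only [key]
  have := a.isLt; have := f.isLt
  omega

/-- The signs are a multiple of those of the model. -/
theorem sign_eq {d : Fin 45 → Fin 40 → Bool} (hfix : ∀ a f, inF f a = true → d a f = false)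
    (htree : ∀ a f, tree f = a :: tree (tf a f) → d a f = false ∧ d a (tf a f) = false)
    (hbraid : ∀ a b f, d (t3 a b) f = (d a f ^^ (d b (tf a f) ^^ d a (tf b (tf a f)))))
    :
    ∀ a f, d a f = (d 1 35 && dM a f) := by
  have htf := tf_invol
  let Good : ℕ → Prop := fun S => ∀ a f, S.testBit (key a f) = true → d a f = (d 1 35 && dM a f)
  have hadd : ∀ {S a f}, Good S → d a f = (d 1 35 && dM a f) → Good (S ||| 2 ^ key a f) := by
    intro S a f hS h b g hb
    rw [Nat.testBit_or, Bool.or_eq_true, Nat.testBit_two_pow, decide_eq_true_eq] at hb
    rcases hb with hb | hb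
    · exact hS b g hb
    · obtain ⟨rfl, rfl⟩ := key_inj hb
      exact h
  have hinit : Good initSet := by
    have inner : ∀ (l : List (Fin 40)) (a : Fin 45) S, Good S →
        Good (l.foldl (fun S f => if initOK a f then S ||| 2 ^ key a f else S) S) := by
      intro l a
      induction l with
      | nil => exact fun S h => h
      | cons f l ih =>
        intro S hS
        rw [List.foldl_cons]
        refine ih _ ?_
        split
        · rename_i h
          refine hadd hS ?_
          rw [init_dM a f h, Bool.and_false]
          simp only [initOK, Bool.or_eq_true, Bool.and_eq_true, decide_eq_true_eq] at h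
          rcases h with (h | ⟨-, h⟩) | ⟨-, h⟩
          · exact hfix a f h
          · exact (htree a f h).1
          · have := (htree a (tf a f) (by rw [htf]; exact h)).2
            rwa [htf] at this
        · exact hS
    have outer : ∀ (l : List (Fin 45)) S, Good S → Good (l.foldl (fun S a => (List.finRange 40).foldl
        (fun S f => if initOK a f then S ||| 2 ^ key a f else S) S) S) := by
      intro l
      induction l with
      | nil => exact fun S h => h
      | cons a l ih => exact fun S hS => ih _ (inner _ a S hS)
    refine outer _ _ fun a f h => ?_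
    rw [Nat.testBit_two_pow, decide_eq_true_eq] at h
    obtain ⟨rfl, rfl⟩ := key_inj h
    rw [free_dM, Bool.and_true]
  have hsteps : ∀ (l : List (Fin 45 × Fin 45 × Fin 40 × Fin 4)) S S', Good S → stepSet S l = some S' →
      Good S' := by
    intro l
    induction l with
    | nil => intro S S' hS h; rw [stepSet, Option.some.injEq] at h; exact h ▸ hS
    | cons x l ih =>
      obtain ⟨a, b, f, i⟩ := x
      intro S S' hS h
      rw [stepSet] at h
      split at h
      · rename_i hc
        refine ih _ _ (hadd hS ?_) h
        simp only [Bool.and_eq_true, List.all_eq_true, List.mem_finRange, true_implies, Bool.or_eq_true,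
          decide_eq_true_eq, beq_iff_eq] at hc
        obtain ⟨hk, hm⟩ := hc
        have hb := hbraid a b f
        have g : ∀ j, j ≠ i → _ := fun j hj => hS _ _ ((hk j).resolve_left hj)
        generalize d 1 35 = l at *
        fin_cases i
        · have g1 := g 1 (by decide); have g2 := g 2 (by decide); have g3 := g 3 (by decide)
          simp at g1 g2 g3 ⊢
          rw [hb, g1, g2, g3, hm]; cases l <;> simp
        · have g1 := g 0 (by decide); have g2 := g 2 (by decide); have g3 := g 3 (by decide)
          simp at g1 g2 g3 ⊢
          rw [g1, g2, g3, hm] at hb; revert hb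
          cases l <;> cases d a f <;> cases dM a f <;> simp
        · have g1 := g 0 (by decide); have g2 := g 1 (by decide); have g3 := g 3 (by decide)
          simp at g1 g2 g3 ⊢
          rw [g1, g2, g3, hm] at hb; revert hb
          cases l <;> cases d b (tf a f) <;> cases dM b (tf a f) <;> simp
        · have g1 := g 0 (by decide); have g2 := g 1 (by decide); have g3 := g 2 (by decide)
          simp at g1 g2 g3 ⊢
          rw [g1, g2, g3, hm] at hb; revert hb
          cases l <;> cases d a (tf b (tf a f)) <;> cases dM a (tf b (tf a f)) <;> simp
      · simp at h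
  intro a f
  refine hsteps steps _ _ hinit steps_ok a f ?_
  rw [Nat.testBit_two_pow_sub_one]
  exact decide_eq_true (key_lt a f)

end Cfsg.Agent.Transpos.Q126
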