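import Cfsg.Agent.Lib.Transpos.QuadRack.Classify
import Cfsg.Agent.Lib.Transpos.QuadRack.MainFacts
import Cfsg.Agent.Lib.Transpos.QuadRack.Signs

/-!
# A system of reflections on 126 points, locally that of the 45 points, is the orthogonal one

A set with an involution at each point, closed under conjugation, whose fixed points at each point carry
the graph of the 45 isotropic points of the four dimensional unitary space over four elements.
-/

set_option autoImplicit false
set_option maxRecDepth 100000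
set_option Elab.async false

namespace Cfsg.Agent.Transpos.Q126

open O6 (adj)

/-- The axioms. -/
structure QRack (α : Type*) where
  /-- The reflection at a point. -/
  t : α → Equiv.Perm α
  /-- Orthogonality. -/
  Adj : α → α → Prop
  symm : ∀ {A B}, Adj A B → Adj B A
  irrefl : ∀ A, ¬ Adj A A
  invol : ∀ A B, t A (t A B) = B
  conj : ∀ A B, t (t A B) = t A * t B * t A
  fix_iff : ∀ A B, t A B = B ↔ A = B ∨ Adj A B
  braid : ∀ A B, A ≠ B → ¬ Adj A B → t A B = t B A
  finite : Finite α
  card : Nat.card α = 126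
  loc : ∀ A, ∃ ι : Fin 45 → α, Function.Injective ι ∧ Set.range ι = {B | Adj A B} ∧
    ∀ i j, i ≠ j → (Adj (ι i) (ι j) ↔ adj i j = true)

namespace QRack

variable {α : Type*} (R : QRack α)

theorem t_self (A : α) : R.t A A = A := (R.fix_iff A A).2 (Or.inl rfl)

theorem adj_ne {A B : α} (h : R.Adj A B) : A ≠ B := fun e => R.irrefl B (e ▸ h)

theorem fix_adj {A B : α} (h : R.Adj A B) : R.t A B = B := (R.fix_iff A B).2 (Or.inr h)

theorem conj_apply (A B C : α) : R.t (R.t A B) C = R.t A (R.t B (R.t A C)) := by rw [R.conj]; rfl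

theorem adj_map {A B C : α} : R.Adj (R.t A B) (R.t A C) ↔ R.Adj B C := by
  have key : ∀ {B C}, R.Adj B C → R.Adj (R.t A B) (R.t A C) := fun {B C} h => by
    have e : R.t (R.t A B) (R.t A C) = R.t A C := by rw [R.conj_apply, R.invol, R.fix_adj h]
    exact ((R.fix_iff _ _).1 e).resolve_left ((R.t A).injective.ne (R.adj_ne h))
  exact ⟨fun h => by simpa [R.invol] using key h, key⟩

/-- In local coordinates the reflections act by third points. -/
theorem t_local {A : α} {ι : Fin 45 → α} (hinj : Function.Injective ι)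
    (hr : Set.range ι = {B | R.Adj A B}) (hadj : ∀ i j, i ≠ j → (R.Adj (ι i) (ι j) ↔ adj i j = true))
    (i j : Fin 45) : R.t (ι i) (ι j) = ι (t3 i j) := by
  have mem : ∀ k, R.Adj A (ι k) := fun k => (Set.ext_iff.1 hr (ι k)).1 ⟨k, rfl⟩
  rcases Bool.eq_false_or_eq_true (adj i j) with h | h
  · rw [t3_adj i j h]
    refine (R.fix_iff _ _).2 ?_
    by_cases e : i = j
    exacts [Or.inl (e ▸ rfl), Or.inr ((hadj i j e).2 h)]
  · have hne : i ≠ j := fun e => by rw [e, adj_self] at h; simp at h
    have hn : ¬ R.Adj (ι i) (ι j) := fun e => by rw [(hadj i j hne).1 e] at h; simp at h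
    obtain ⟨m, hm⟩ : R.t (ι i) (ι j) ∈ Set.range ι := by
      rw [hr]
      have := (R.adj_map (A := ι i)).2 (mem j)
      rwa [R.fix_adj (R.symm (mem i))] at this
    have n1 : m ≠ i := fun e => by
      subst e
      exact hne (hinj ((R.t (ι m)).injective (by rw [R.t_self, ← hm]))).symm.symm
    have n2 : m ≠ j := fun e => by
      subst e
      rcases (R.fix_iff _ _).1 hm.symm with e' | e'
      exacts [hne (hinj e'), hn e']
    rw [← hm, t3_unique i j m h n1 n2 ?_]
    refine Nat.eq_of_testBit_eq fun k => ?_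
    rw [Nat.testBit_and _ (O6.adjT.getD m.1 0)]
    by_cases hk : k < 45
    · cases hb : (O6.adjT.getD i.1 0 &&& O6.adjT.getD j.1 0).testBit k
      · rfl
      · rw [Bool.true_and]
        rw [Nat.testBit_and, Bool.and_eq_true] at hb
        show adj m ⟨k, hk⟩ = true
        by_cases e0 : m = ⟨k, hk⟩
        · rw [← e0]; exact adj_self m
        have ek : ∀ {x : Fin 45}, adj x ⟨k, hk⟩ = true → R.t (ι ⟨k, hk⟩) (ι x) = ι x := fun {x} hx => by
          refine (R.fix_iff _ _).2 ?_
          by_cases e : (⟨k, hk⟩ : Fin 45) = x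
          exacts [Or.inl (e ▸ rfl), Or.inr (R.symm ((hadj _ _ (Ne.symm e)).2 hx))]
        have hfix : R.t (ι ⟨k, hk⟩) (ι m) = ι m := by
          have hbi := ek (x := i) hb.1
          have hbj := ek (x := j) hb.2
          have := R.conj_apply (ι ⟨k, hk⟩) (ι i) (R.t (ι ⟨k, hk⟩) (ι j))
          rw [hbi, R.invol, hbj, ← hm] at this
          exact this.symm
        rcases (R.fix_iff _ _).1 hfix with e | e
        · exact absurd (hinj e).symm e0
        · exact (hadj _ _ e0).1 (R.symm e)
    · rw [Nat.testBit_and (O6.adjT.getD i.1 0), Nat.testBit_lt_two_pow (x := O6.adjT.getD i.1 0)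
        (lt_of_lt_of_le (adjT_lt i) (Nat.pow_le_pow_right (by norm_num) (by omega)))]
      rfl

/-- The tables describe the system. -/
theorem exists_model : ∃ β : Fin 126 → α, Function.Bijective β ∧
    ∀ i j, R.t (β i) (β j) = β (T i j) := by
  classical
  haveI := R.finite
  haveI : Fintype α := Fintype.ofFinite α
  haveI : Nonempty α := (Nat.card_pos_iff.1 (by rw [R.card]; norm_num)).1
  obtain ⟨A⟩ := ‹Nonempty α›
  obtain ⟨ι, hinj, hr, hadj⟩ := R.loc A
  have mem : ∀ k, R.Adj A (ι k) := fun k => (Set.ext_iff.1 hr (ι k)).1 ⟨k, rfl⟩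
  have hA : ∀ k, R.t (ι k) A = A := fun k => R.fix_adj (R.symm (mem k))
  have hloc := R.t_local hinj hr hadj
  -- the points away from `A`
  let O := {B : α // B ≠ A ∧ ¬ R.Adj A B}
  let F : O → Fin 45 → Prop := fun B k => R.Adj (ι k) B.1
  let u : Fin 45 → O → O := fun a B => ⟨R.t (ι a) B.1,
    fun e => B.2.1 ((R.t (ι a)).injective (e.trans (hA a).symm)),
    fun h => B.2.2 (R.adj_map.1 (show R.Adj (R.t (ι a) A) (R.t (ι a) B.1) by rwa [hA a]))⟩
  have hu : ∀ a B k, F (u a B) k ↔ F B (t3 a k) := fun a B k => by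
    show R.Adj (ι k) (R.t (ι a) B.1) ↔ R.Adj (ι (t3 a k)) B.1
    conv_lhs => rw [← R.invol (ι a) (ι k), R.adj_map, hloc]
  have hNice : ∀ B, Nice (F B) := by
    intro B
    refine ⟨fun a b ha hb => ?_, fun x y hx hxy nxy => ?_⟩
    · have := (R.adj_map (A := ι a)).2 hb
      rwa [hloc, R.fix_adj ha] at this
    obtain ⟨κ, kinj, kr, kadj⟩ := R.loc (ι x)
    have kin : ∀ {C}, R.Adj (ι x) C → ∃ i, κ i = C := fun h => by rwa [← Set.mem_range, kr]
    obtain ⟨i, hi⟩ := kin (R.symm (mem x))
    obtain ⟨i', hi'⟩ := kin ((hadj x y nxy).2 hxy)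
    obtain ⟨j, hj⟩ := kin hx
    have nii : i ≠ i' := fun e => R.irrefl A (by
      have h := mem y
      rwa [← hi', ← e, hi] at h)
    have aii : adj i i' = true := (kadj i i' nii).1 (by rw [hi, hi']; exact mem y)
    have aij : adj i j = false := Bool.eq_false_iff.2 fun h => by
      have nij : i ≠ j := fun e => B.2.1 (hj.symm.trans ((congrArg κ e).symm.trans hi))
      have h' := (kadj i j nij).2 h
      rw [hi, hj] at h'
      exact B.2.2 h'
    obtain ⟨m0, mlt, m1⟩ := gq_mask i i' j aii nii aij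
    obtain ⟨k₀, hk₀⟩ := Nat.exists_testBit_of_ne_zero m0
    have k₀lt : k₀ < 45 := by
      by_contra h
      rw [Nat.testBit_lt_two_pow (lt_of_lt_of_le mlt (Nat.pow_le_pow_right (by norm_num) (by omega)))] at hk₀
      simp at hk₀
    have bits : ∀ k : Fin 45, (gqMask i i' j).testBit k.1 = true ↔
        adj i k = true ∧ adj i' k = true ∧ adj j k = true := fun k => by
      simp only [gqMask, Nat.testBit_and, Bool.and_eq_true, and_assoc]
      rfl
    obtain ⟨b1, b2, b3⟩ := (bits ⟨k₀, k₀lt⟩).1 hk₀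
    set k : Fin 45 := ⟨k₀, k₀lt⟩
    have nki : k ≠ i := fun e => by rw [e, adj_symm] at b3; rw [b3] at aij; simp at aij
    obtain ⟨m, hm⟩ : κ k ∈ Set.range ι := by
      rw [hr]
      show R.Adj A (κ k)
      rw [← hi]
      exact (kadj i k (Ne.symm nki)).2 b1
    have hxk : R.Adj (ι x) (κ k) := (Set.ext_iff.1 kr (κ k)).1 ⟨k, rfl⟩
    have nmx : m ≠ x := fun e => R.adj_ne hxk (by rw [← hm, e])
    have nkj : k ≠ j := fun e => by rw [e] at b1; rw [b1] at aij; simp at aij
    refine ⟨m, ⟨?_, ?_⟩, fun n ⟨hn, hFn⟩ => ?_⟩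
    · simp only [opts, List.mem_filter, List.mem_finRange, true_and, Bool.and_eq_true, decide_eq_true_eq]
      refine ⟨⟨nmx, (hadj m x nmx).1 (by rw [hm]; exact R.symm hxk)⟩, ?_⟩
      by_cases e : m = y
      · rw [e]; exact adj_self y
      have e' : k ≠ i' := fun h => e (hinj (by rw [hm, h, hi']))
      refine (hadj m y e).1 ?_
      rw [hm, ← hi']
      exact R.symm ((kadj i' k (Ne.symm e')).2 b2)
    · show R.Adj (ι m) B.1
      rw [hm, ← hj]
      exact R.symm ((kadj j k (Ne.symm nkj)).2 b3)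
    · simp only [opts, List.mem_filter, List.mem_finRange, true_and, Bool.and_eq_true,
        decide_eq_true_eq] at hn
      obtain ⟨k', hk'⟩ := kin (R.symm ((hadj n x hn.1.1).2 hn.1.2))
      have c1 : adj i k' = true := (kadj i k' fun e => R.irrefl A (by
        have h := mem n; rwa [← hk', ← e, hi] at h)).1 (by rw [hi, hk']; exact mem n)
      have c2 : adj i' k' = true := by
        by_cases e : i' = k'
        · rw [e]; exact adj_self _
        refine (kadj i' k' e).1 ?_
        rw [hi', hk']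
        refine (hadj y n fun h => e (kinj (by rw [hi', hk', h]))).2 ?_
        rw [adj_symm]; exact hn.2
      have c3 : adj j k' = true := (kadj j k' fun e => R.irrefl B.1 (by
        have h : R.Adj (ι n) B.1 := hFn
        rwa [← hk', ← e, hj] at h)).1 (by rw [hj, hk']; exact R.symm hFn)
      have e := eq_of_two_bits m1 ((bits k).2 ⟨b1, b2, b3⟩) ((bits k').2 ⟨c1, c2, c3⟩)
      exact hinj (by rw [hm, ← hk', Fin.ext e])
  have hOcard : Nat.card O = 80 := by
    have h1 : Nat.card {B : α // R.Adj A B} = 45 := by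
      show Nat.card ↥{B | R.Adj A B} = 45
      rw [← hr, Nat.card_range_of_injective hinj, Nat.card_fin]
    have e : ({B : α | B ≠ A ∧ ¬ R.Adj A B}) = (insert A {B | R.Adj A B})ᶜ := by
      ext B; simp [not_or]
    show Nat.card ↥{B : α | B ≠ A ∧ ¬ R.Adj A B} = 80
    have hns : A ∉ {B | R.Adj A B} := R.irrefl A
    rw [Nat.card_coe_set_eq, e, Set.ncard_compl _ (Set.toFinite _),
      Set.ncard_insert_of_notMem hns, R.card, ← Nat.card_coe_set_eq]
    change 126 - (Nat.card {B : α // R.Adj A B} + 1) = 80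
    rw [h1]
  obtain ⟨B₁, hB₁⟩ : ∃ B : O, 18 ≤ {k | F B k}.ncard := by
    by_contra hno
    push Not at hno
    have hle : Nat.card (Σ B : O, {k | F B k}) ≤ 80 * 17 := by
      rw [Nat.card_sigma, ← hOcard, Nat.card_eq_fintype_card, ← Finset.card_univ, ← smul_eq_mul]
      exact Finset.sum_le_card_nsmul _ _ _ fun B _ => by
        have := hno B
        rw [Nat.card_coe_set_eq]
        omega
    have hge : Nat.card (Σ k : Fin 45, {B : O | F B k}) = 45 * 32 := by
      rw [Nat.card_sigma, Finset.sum_congr rfl fun k _ => ?_, Finset.sum_const, Finset.card_univ,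
        Fintype.card_fin, smul_eq_mul]
      obtain ⟨κ, kinj, kr, kadj⟩ := R.loc (ι k)
      obtain ⟨i, hi⟩ : A ∈ Set.range κ := by rw [kr]; exact R.symm (mem k)
      have hP : ∀ j, adj i j = false → κ j ≠ A ∧ ¬ R.Adj A (κ j) := fun j hj =>
        have nij : i ≠ j := fun e => by rw [e, adj_self] at hj; simp at hj
        ⟨fun e => nij (kinj (hi.trans e.symm)), fun h => by
          rw [← hi] at h
          rw [(kadj i j nij).1 h] at hj; simp at hj⟩
      let φ : {j : Fin 45 // adj i j = false} → ↥{B : O | F B k} := fun j =>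
        ⟨⟨κ j.1, hP j.1 j.2⟩, (Set.ext_iff.1 kr (κ j.1)).1 ⟨j.1, rfl⟩⟩
      have hφ : Function.Bijective φ := by
        refine ⟨fun a b e => Subtype.ext (kinj (congrArg (fun B => B.1.1) e)), fun B => ?_⟩
        obtain ⟨j, hj⟩ : B.1.1 ∈ Set.range κ := by rw [kr]; exact B.2
        refine ⟨⟨j, Bool.eq_false_iff.2 fun h => B.1.2.2 ?_⟩, Subtype.ext (Subtype.ext hj)⟩
        have h' := (kadj i j fun e => B.1.2.1 (hj.symm.trans ((congrArg κ e).symm.trans hi))).2 h
        rwa [hi, hj] at h'
      rw [← Nat.card_eq_of_bijective φ hφ, ← off_count i,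
        ← List.toFinset_card_of_nodup ((List.nodup_finRange 45).filter _)]
      exact Nat.subtype_card _ fun j => by simp
    have := Nat.card_congr (⟨fun x => ⟨x.2.1, x.1, x.2.2⟩, fun x => ⟨x.2.1, x.1, x.2.2⟩, fun _ => rfl,
      fun _ => rfl⟩ : (Σ B : O, {k | F B k}) ≃ Σ k : Fin 45, {B : O | F B k})
    omega
  obtain ⟨B₀, hB₀⟩ := exists_frame F u hu hNice hB₁
  let Bq : Fin 40 → O := fun f => (tree f).foldr u B₀
  have hFq : ∀ f k, F (Bq f) k ↔ inF f k = true := by
    intro f
    have hw : ∀ (w : List (Fin 45)) k, inF (w.foldr tf 0) (w.foldr t3 k) = inF 0 k := by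
      intro w
      induction w with
      | nil => exact fun k => rfl
      | cons a w ih => intro k; rw [List.foldr_cons, List.foldr_cons, tf_frame, ih]
    have hsurj : Function.Surjective fun k => (tree f).foldr t3 k := by
      refine Finite.injective_iff_surjective.1 ?_
      generalize tree f = w
      induction w with
      | nil => exact fun x y e => e
      | cons a w ih => exact fun x y e => ih (by simpa [t3_invol] using congrArg (t3 a) e)
    intro k
    obtain ⟨k, rfl⟩ := hsurj k
    have := hw (tree f) k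
    rw [tree_ok] at this
    rw [show F (Bq f) _ ↔ _ from foldr_iff F u hu (tree f) B₀ k, this]
    exact hB₀ k
  let Cq : Fin 40 → α := fun f => R.t A (Bq f).1
  have hCO : ∀ f, Cq f ≠ A ∧ ¬ R.Adj A (Cq f) := fun f =>
    ⟨fun e => (Bq f).2.1 ((R.t A).injective (e.trans (R.t_self A).symm)), fun h => (Bq f).2.2 (by
      rw [← R.t_self A] at h; exact R.adj_map.1 h)⟩
  have hFc : ∀ f k, R.Adj (ι k) (Cq f) ↔ inF f k = true := fun f k => by
    rw [← hFq f k]
    show R.Adj (ι k) (R.t A (Bq f).1) ↔ R.Adj (ι k) (Bq f).1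
    conv_lhs => rw [← R.fix_adj (mem k), R.adj_map]
  let β : Fin 126 → α := fun j => if h0 : j.1 = 0 then A else if h1 : j.1 < 46 then ι ⟨j.1 - 1, by omega⟩
    else if h2 : j.1 < 86 then (Bq ⟨j.1 - 46, by omega⟩).1 else Cq ⟨j.1 - 86, by have := j.2; omega⟩
  have β0 : β 0 = A := rfl
  have βp : ∀ a, β (p a) = ι a := fun a => by
    have hv : (p a).1 = 1 + a.1 := by show (1 + a.1) % 126 = _; have := a.2; omega
    show dite _ _ _ = _
    rw [dif_neg (by omega), dif_pos (by omega)]
    exact congrArg ι (Fin.ext (by simp only; omega))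
  have βb : ∀ f, β (bq f) = (Bq f).1 := fun f => by
    have hv : (bq f).1 = 46 + f.1 := by show (46 + f.1) % 126 = _; have := f.2; omega
    show dite _ _ _ = _
    rw [dif_neg (by omega), dif_neg (by omega), dif_pos (by have := f.2; omega)]
    exact congrArg (fun f => (Bq f).1) (Fin.ext (by simp only; omega))
  have βc : ∀ f, β (cq f) = Cq f := fun f => by
    have hv : (cq f).1 = 86 + f.1 := by show (86 + f.1) % 126 = _; have := f.2; omega
    show dite _ _ _ = _
    rw [dif_neg (by omega), dif_neg (by omega), dif_neg (by omega)]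
    exact congrArg Cq (Fin.ext (by simp only; omega))
  have frame_eq : ∀ {f g}, (∀ k, inF f k = true ↔ inF g k = true) → f = g := fun {f g} h => fr_inj f g (by
    refine Nat.eq_of_testBit_eq fun k => ?_
    by_cases hk : k < 45
    · exact Bool.eq_iff_iff.2 (h ⟨k, hk⟩)
    · rw [Nat.testBit_lt_two_pow (lt_of_lt_of_le (fr_lt f) (Nat.pow_le_pow_right (by norm_num) (by omega))),
        Nat.testBit_lt_two_pow (lt_of_lt_of_le (fr_lt g) (Nat.pow_le_pow_right (by norm_num) (by omega)))])
  have qb : ∀ {f g}, (Bq f).1 = (Bq g).1 → f = g := fun {f g} e => frame_eq fun k => by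
    rw [← hFq, ← hFq]; show R.Adj _ _ ↔ R.Adj _ _; rw [e]
  have qc : ∀ {f g}, (Bq f).1 ≠ Cq g := fun {f g} e => by
    have hfg : f = g := frame_eq fun k => by
      rw [← hFq f, ← hFc g]; show R.Adj _ _ ↔ R.Adj _ _; rw [e]
    subst hfg
    rcases (R.fix_iff _ _).1 e.symm with h | h
    exacts [(Bq f).2.1 h.symm, (Bq f).2.2 h]
  have βinj : Function.Injective β := by
    intro i j e
    rcases label_cases i with rfl | ⟨a, rfl⟩ | ⟨f, rfl⟩ | ⟨f, rfl⟩ <;>
      rcases label_cases j with rfl | ⟨b, rfl⟩ | ⟨g, rfl⟩ | ⟨g, rfl⟩ <;>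
      simp only [β0, βp, βb, βc] at e
    · rfl
    · exact absurd e (R.adj_ne (mem b))
    · exact absurd e.symm (Bq g).2.1
    · exact absurd e.symm (hCO g).1
    · exact absurd e.symm (R.adj_ne (mem a))
    · rw [hinj e]
    · exact absurd (e ▸ mem a) (Bq g).2.2
    · exact absurd (e ▸ mem a) (hCO g).2
    · exact absurd e (Bq f).2.1
    · exact absurd (e.symm ▸ mem b) (Bq f).2.2
    · rw [qb e]
    · exact absurd e qc
    · exact absurd e (hCO f).1
    · exact absurd (e.symm ▸ mem b) (hCO f).2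
    · exact absurd e.symm qc
    · rw [qb ((R.t A).injective e)]
  have βbij : Function.Bijective β := (Fintype.bijective_iff_injective_and_card β).2 ⟨βinj, by
    rw [Fintype.card_fin, ← Nat.card_eq_fintype_card, R.card]⟩
  -- the signs
  let pt : Fin 40 → Bool → α := fun f e => if e then Cq f else (Bq f).1
  have pt_inj : ∀ {f g d e}, pt f d = pt g e → d = e := by
    intro f g d e h
    cases d <;> cases e <;> simp only [pt, if_true, if_false, Bool.false_eq_true] at h
    exacts [rfl, absurd h qc, absurd h.symm qc, rfl]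
  let d : Fin 45 → Fin 40 → Bool := fun a f => decide (R.t (ι a) (Bq f).1 ≠ (Bq (tf a f)).1)
  have commA : ∀ a X, R.t (ι a) (R.t A X) = R.t A (R.t (ι a) X) := fun a X => by
    conv_rhs => rw [← hA a, R.conj_apply, R.invol]
  have hd0 : ∀ a f, R.t (ι a) (Bq f).1 = pt (tf a f) (d a f) := by
    intro a f
    by_cases h : R.t (ι a) (Bq f).1 = (Bq (tf a f)).1
    · simp [d, pt, h]
    simp only [d, pt, h, ne_eq, not_false_eq_true, decide_true, if_true]
    have hfr : ∀ k, R.Adj (ι k) (R.t (ι a) (Bq f).1) ↔ inF (tf a f) k = true := fun k => by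
      rw [show R.Adj (ι k) (R.t (ι a) (Bq f).1) ↔ _ from hu a (Bq f) k, hFq,
        ← tf_frame a f (t3 a k), t3_invol]
    obtain ⟨j, hj⟩ := βbij.2 (R.t (ι a) (Bq f).1)
    rcases label_cases j with rfl | ⟨b, rfl⟩ | ⟨g, rfl⟩ | ⟨g, rfl⟩ <;>
      simp only [β0, βp, βb, βc] at hj
    · exact absurd hj.symm (u a (Bq f)).2.1
    · exact absurd (show R.Adj A (u a (Bq f)).1 from (hj ▸ mem b : R.Adj A (R.t (ι a) (Bq f).1))) (u a (Bq f)).2.2
    · have : g = tf a f := frame_eq fun k => by rw [← hfr, ← hj]; exact (hFq g k).symm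
      exact absurd (this ▸ hj.symm) h
    · have : g = tf a f := frame_eq fun k => by rw [← hfr, ← hj]; exact (hFc g k).symm
      exact this ▸ hj.symm
  have hd : ∀ a f e, R.t (ι a) (pt f e) = pt (tf a f) (e ^^ d a f) := by
    intro a f e
    cases e
    · simpa [pt] using hd0 a f
    · have h := commA a (Bq f).1
      rw [hd0] at h
      refine (show R.t (ι a) (pt f true) = R.t A (pt (tf a f) (d a f)) from by simpa [pt] using h).trans ?_
      cases d a f <;> simp [pt, Cq, R.invol]
  have hdfix : ∀ a f, inF f a = true → d a f = false := fun a f h => by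
    simp only [d, ne_eq, decide_eq_false_iff_not, not_not]
    rw [tf_fix a f h]
    exact R.fix_adj ((hFq f a).2 h)
  have hdtree : ∀ a f, tree f = a :: tree (tf a f) → d a f = false ∧ d a (tf a f) = false := by
    intro a f h
    have e : (Bq f).1 = R.t (ι a) (Bq (tf a f)).1 := by
      show (((tree f).foldr u B₀ : O)).1 = _
      rw [h]; rfl
    constructor
    · simp only [d, ne_eq, decide_eq_false_iff_not, not_not]
      rw [e, R.invol]
    · simp only [d, ne_eq, decide_eq_false_iff_not, not_not]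
      rw [tf_invol, e]
  have hbraid : ∀ a b f, d (t3 a b) f = (d a f ^^ (d b (tf a f) ^^ d a (tf b (tf a f)))) := by
    intro a b f
    have h := hd (t3 a b) f false
    rw [← hloc, R.conj_apply, hd, hd, hd] at h
    have := (pt_inj h).symm
    simpa [Bool.xor_assoc] using this
  have hsig := sign_eq hdfix hdtree hbraid
  set B := (Bq 0).1 with hBdef
  have hBA : B ≠ A := (Bq 0).2.1
  have hnB : ¬ R.Adj A B := (Bq 0).2.2
  have bB : ∀ a, inF 0 a = false → R.t B (ι a) = R.t (ι a) B := fun a ha => by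
    refine R.braid _ _ (fun e => ?_) fun h => ?_
    · exact hnB (by rw [e]; exact mem a)
    · have := (hFq 0 a).1 (R.symm h)
      rw [this] at ha; simp at ha
  have bB' : ∀ a, inF 0 a = false → R.t B (R.t (ι a) B) = ι a := fun a ha => by
    rw [← bB a ha, R.invol]
  have hBAB : R.t B A = R.t A B := R.braid _ _ hBA fun h => hnB (R.symm h)
  have bY : ∀ a, inF 0 a = false → R.t B (R.t A (R.t (ι a) B)) = R.t A (R.t (ι a) B) := fun a ha => by
    have h1 : R.t B (R.t A (R.t (ι a) B)) = R.t (R.t B A) (ι a) := by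
      rw [R.conj_apply, bB a ha]
    rw [h1, hBAB, R.conj_apply, R.fix_adj (mem a), bB a ha]
  have hd1 : d 1 35 = true := by
    by_contra hne
    rw [Bool.not_eq_true] at hne
    have all0 : ∀ a f, d a f = false := fun a f => by rw [hsig, hne, Bool.false_and]
    have hmove : ∀ a f, R.t (ι a) (Bq f).1 = (Bq (tf a f)).1 := fun a f => by
      simpa [all0 a f, pt] using hd0 a f
    let Y : Fin 45 → α := fun k => if inF 0 k then ι k else Cq (tf k 0)
    have hY : ∀ k, R.Adj B (Y k) := by
      intro k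
      rcases Bool.eq_false_or_eq_true (inF 0 k) with h | h
      · simp only [Y, h, if_true]
        exact R.symm ((hFq 0 k).2 h)
      · simp only [Y, h, Bool.false_eq_true, if_false]
        have := bY k h
        rw [hmove] at this
        exact ((R.fix_iff _ _).1 this).resolve_left fun e => qc e
    have Yinj : Function.Injective Y := by
      intro a b e
      rcases Bool.eq_false_or_eq_true (inF 0 a) with ha | ha <;>
        rcases Bool.eq_false_or_eq_true (inF 0 b) with hb | hb <;>
        simp only [Y, ha, hb, Bool.false_eq_true, if_true, if_false] at e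
      · exact hinj e
      · exact absurd (e ▸ mem a) (hCO _).2
      · exact absurd (e.symm ▸ mem b) (hCO _).2
      · exact tf_inj_zero a b ha hb (qb ((R.t A).injective e))
    obtain ⟨κ, kinj, kr, kadj⟩ := R.loc B
    have hYsurj : ∀ {X}, R.Adj B X → ∃ k, Y k = X := by
      have : Set.range Y = {X | R.Adj B X} := Set.eq_of_subset_of_ncard_le
        (by rintro _ ⟨k, rfl⟩; exact hY k) (by
          rw [← kr, Set.ncard_range_of_injective kinj, Set.ncard_range_of_injective Yinj])
        (Set.toFinite _)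
      exact fun {X} h => (Set.ext_iff.1 this X).2 h
    obtain ⟨a, b, ha, hb, nab, aab⟩ := frame_pair
    have kin : ∀ {X}, R.Adj B X → ∃ i, κ i = X := fun {X} h => (Set.ext_iff.1 kr X).2 h
    obtain ⟨i, hi⟩ := kin (R.symm ((hFq 0 a).2 ha))
    obtain ⟨i', hi'⟩ := kin (R.symm ((hFq 0 b).2 hb))
    have nii : i ≠ i' := fun e => nab (hinj (by rw [← hi, ← hi', e]))
    have aii : adj i i' = true := (kadj i i' nii).1 (by rw [hi, hi']; exact (hadj a b nab).2 aab)
    obtain ⟨j, j', njj, nji, nji', nj'i, nj'i', c1, c2, c3, c4, c5⟩ := two_on_line i i' aii nii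
    have outside : ∀ {j}, j ≠ i → j ≠ i' → adj i j = true → adj i' j = true →
        ∃ k, inF 0 k = false ∧ Cq (tf k 0) = κ j := by
      intro j n1 n2 d1 d2
      obtain ⟨k, hk⟩ := hYsurj ((Set.ext_iff.1 kr (κ j)).1 ⟨j, rfl⟩)
      rcases Bool.eq_false_or_eq_true (inF 0 k) with h | h
      · exfalso
        simp only [Y, h, if_true] at hk
        have e1 : k ≠ a := fun e => n1 (kinj (by rw [← hk, e, hi]))
        have e2 : k ≠ b := fun e => n2 (kinj (by rw [← hk, e, hi']))
        have f1 : adj a k = true := (hadj a k (Ne.symm e1)).1 (by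
          rw [← hi, hk]; exact (kadj i j (Ne.symm n1)).2 d1)
        have f2 : adj b k = true := (hadj b k (Ne.symm e2)).1 (by
          rw [← hi', hk]; exact (kadj i' j (Ne.symm n2)).2 d2)
        exact absurd f2 (by rw [no_triangle a b k ha hb h nab (Ne.symm e1) (Ne.symm e2) aab f1]; simp)
      · simp only [Y, h, Bool.false_eq_true, if_false] at hk
        exact ⟨k, h, hk⟩
    obtain ⟨x, hx, ex⟩ := outside nji nji' c1 c2
    obtain ⟨y, hy, ey⟩ := outside nj'i nj'i' c3 c4
    have h := R.fix_adj ((kadj j j' njj).2 c5)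
    rw [← ex, ← ey] at h
    simp only [Cq, R.conj_apply, R.invol] at h
    have h2 := (R.t A).injective h
    rw [← hmove x 0, R.conj_apply] at h2
    have h3 : R.t B (R.t (ι x) (Bq (tf y 0)).1) = R.t (ι x) (Bq (tf y 0)).1 := by
      have := congrArg (R.t (ι x)) h2
      rwa [R.invol] at this
    rw [hmove] at h3
    rcases (R.fix_iff _ _).1 h3 with h | h
    · have e : tf x (tf y 0) = 0 := (qb h).symm
      have e2 := congrArg (tf x) e
      rw [tf_invol] at e2
      exact njj (kinj (by rw [← ex, ← ey, e2]))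
    · obtain ⟨k, hk⟩ := hYsurj h
      rcases Bool.eq_false_or_eq_true (inF 0 k) with h' | h'
      · simp only [Y, h', if_true] at hk
        exact (Bq (tf x (tf y 0))).2.2 (hk ▸ mem k)
      · simp only [Y, h', Bool.false_eq_true, if_false] at hk
        exact qc hk.symm
  have hdM : ∀ a f, d a f = dM a f := fun a f => by rw [hsig, hd1, Bool.true_and]
  let E : Fin 126 → Prop := fun i => ∀ j, R.t (β i) (β j) = β (T i j)
  have E0 : E 0 := by
    intro j
    rw [β0]
    rcases label_cases j with rfl | ⟨b, rfl⟩ | ⟨g, rfl⟩ | ⟨g, rfl⟩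
    · rw [β0, T_zero_zero, β0, R.t_self]
    · rw [βp, T_zero_p, βp, R.fix_adj (mem b)]
    · rw [βb, (T_zero_bq g).1, βc]
    · rw [βc, (T_zero_bq g).2, βb]; exact R.invol _ _
  have Ep : ∀ a, E (p a) := by
    intro a j
    rw [βp]
    rcases label_cases j with rfl | ⟨b, rfl⟩ | ⟨g, rfl⟩ | ⟨g, rfl⟩
    · rw [β0, T_p_zero, β0, hA]
    · rw [βp, T_p_p, βp, hloc]
    · rw [βb, (T_p_bq a g).1, hd0, hdM]
      cases dM a g <;> simp [pt, βb, βc]
    · rw [βc, (T_p_bq a g).2, show Cq g = pt g true from rfl, hd, hdM]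
      cases dM a g <;> simp [pt, βb, βc]
  have Eb : E (bq 0) := by
    intro j
    have hβB : β (bq 0) = B := βb 0
    obtain ⟨⟨m1, m2, m3⟩, mF, mN, mT⟩ := model_bq
    have hBA' : R.t B A = β (cq 0) := by rw [hBAB, βc]
    have hin : ∀ a, R.t (ι a) B = β (T (p a) (bq 0)) := fun a => by
      rw [← Ep a (bq 0), βp, hβB]
    rw [hβB]
    rcases cover_bq j with rfl | rfl | rfl | ⟨a, rfl⟩ | ⟨a, ha, rfl⟩ | ⟨a, ha, rfl⟩ | ⟨e, he, rfl⟩
    · rw [m1, β0, hBA']
    · rw [m2, β0, ← hBA', R.invol]
    · rw [m3, hβB, R.t_self]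
    · rw [βp]
      rcases Bool.eq_false_or_eq_true (inF 0 a) with h | h
      · rw [mF a h, βp]; exact R.fix_adj (R.symm ((hFq 0 a).2 h))
      · rw [(mN a h).1, ← hin, bB a h]
    · rw [(mN a ha).2.1, ← hin, bB' a ha, βp]
    · rw [(mN a ha).2.2, ← E0 (T (p a) (bq 0)), β0, ← hin, bY a ha]
    · obtain ⟨ha, hb, hc, hT⟩ := mT e he
      rw [hT, ← Ep e.1, ← Ep e.1, βp, ← hin, ← hin]
      have h1 : R.t B (R.t (ι e.1) (R.t (ι e.2) B)) = R.t (R.t B (ι e.1)) (ι e.2) := by
        rw [R.conj_apply, bB e.2 hb]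
      rw [h1, bB e.1 ha, R.conj_apply, hloc, bB _ hc]
  have Eclose : ∀ (l : List (Fin 126 × Fin 126)) (S S' : ℕ),
      (∀ e ∈ l, ∀ j, T (T e.1 e.2) j = T e.1 (T e.2 (T e.1 j))) →
      (∀ i : Fin 126, S.testBit i.1 = true → E i) → genSet l S = some S' →
      ∀ i : Fin 126, S'.testBit i.1 = true → E i := by
    intro l
    induction l with
    | nil => intro S S' _ hS h; rw [genSet, Option.some.injEq] at h; exact h ▸ hS
    | cons e l ih =>
      obtain ⟨i, k⟩ := e
      intro S S' hl hS h
      rw [genSet] at h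
      split at h
      · rename_i hik
        rw [Bool.and_eq_true] at hik
        refine ih _ _ (fun e he => hl e (List.mem_cons_of_mem _ he)) (fun m hm => ?_) h
        rw [Nat.testBit_or, Bool.or_eq_true, Nat.testBit_two_pow, decide_eq_true_eq] at hm
        rcases hm with hm | hm
        · exact hS m hm
        · intro j
          rw [← Fin.ext hm, ← hS i hik.1 k, R.conj_apply, hS i hik.1, hS k hik.2, hS i hik.1,
            hl _ List.mem_cons_self]
      · simp at h
  refine ⟨β, βbij, fun i => Eclose genT genStart _ gen_conj (fun m hm => ?_) gen_ok i ?_⟩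
  · have key : ∀ (l : List (Fin 45)) S, (∀ i : Fin 126, S.testBit i.1 = true → E i) →
        ∀ i : Fin 126, (l.foldl (fun S a => S ||| 2 ^ (p a).1) S).testBit i.1 = true → E i := by
      intro l
      induction l with
      | nil => exact fun S h => h
      | cons a l ih =>
        intro S hS
        refine ih _ fun i hi => ?_
        rw [Nat.testBit_or, Bool.or_eq_true, Nat.testBit_two_pow, decide_eq_true_eq] at hi
        exact hi.elim (hS i) fun e => (Fin.ext e : p a = i) ▸ Ep a
    refine key _ _ (fun i hi => ?_) m hm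
    rw [Nat.testBit_or, Bool.or_eq_true, Nat.testBit_two_pow, Nat.testBit_two_pow, decide_eq_true_eq,
      decide_eq_true_eq] at hi
    rcases hi with e | e
    · exact (Fin.ext e : (0 : Fin 126) = i) ▸ E0
    · exact (Fin.ext e : bq 0 = i) ▸ Eb
  · rw [Nat.testBit_two_pow_sub_one]
    exact decide_eq_true i.2

end QRack

end Cfsg.Agent.Transpos.Q126
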