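import Cfsg.Agent.Lib.Transpos.QuadRack.Data

/-!
# Facts about the tables of the 126 points, checked by evaluation

`T i j` is the image of the point `j` under the reflection at `i`; `p a`, `bq f`, `cq f` are the
labels of the points orthogonal to the first one and of the two points over a frame.
-/

set_option autoImplicit false
set_option maxRecDepth 100000
set_option Elab.async false

namespace Cfsg.Agent.Transpos.Q126

open O6 (adj)

/-- The reflection at `i` on the point `j`. -/
def T (i j : Fin 126) : Fin 126 := Fin.ofNat 126 ((rows.getD i.1 0 >>> (7 * j.1)) % 128)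

/-- A point orthogonal to the first. -/
def p (a : Fin 45) : Fin 126 := Fin.ofNat 126 (1 + a.1)

/-- The first point over a frame. -/
def bq (f : Fin 40) : Fin 126 := Fin.ofNat 126 (46 + f.1)

/-- The second point over a frame. -/
def cq (f : Fin 40) : Fin 126 := Fin.ofNat 126 (86 + f.1)

/-- The third point of a line of two points. -/
def t3 (a b : Fin 45) : Fin 45 := Fin.ofNat 45 ((T (p a) (p b)).1 - 1)

/-- The image of a frame. -/
def tf (a : Fin 45) (f : Fin 40) : Fin 40 := Fin.ofNat 40 ((T (p a) (bq f)).1 - 46)

/-- Whether a reflection exchanges the two points over the frames. -/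
def dM (a : Fin 45) (f : Fin 40) : Bool := decide (86 ≤ (T (p a) (bq f)).1)

/-- The frame, as a bit set. -/
def fr (f : Fin 40) : ℕ := frT.getD f.1 0

/-- A point lies in a frame. -/
def inF (f : Fin 40) (a : Fin 45) : Bool := (fr f).testBit a.1

/-- The points collinear with two collinear points, without the first. -/
def opts (x y : Fin 45) : List (Fin 45) :=
  (List.finRange 45).filter fun k => decide (k ≠ x) && adj k x && adj k y

theorem t3_adj : ∀ a b, adj a b = true → t3 a b = b := by decide +kernel

theorem t3_spec : ∀ a b, adj a b = false → t3 a b ≠ a ∧ t3 a b ≠ b ∧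
    ((O6.adjT.getD a.1 0 &&& O6.adjT.getD b.1 0) &&& O6.adjT.getD (t3 a b).1 0) =
      (O6.adjT.getD a.1 0 &&& O6.adjT.getD b.1 0) := by decide +kernel

theorem t3_unique : ∀ a b c, adj a b = false → c ≠ a → c ≠ b →
    ((O6.adjT.getD a.1 0 &&& O6.adjT.getD b.1 0) &&& O6.adjT.getD c.1 0) =
      (O6.adjT.getD a.1 0 &&& O6.adjT.getD b.1 0) → c = t3 a b := by decide +kernel

theorem t3_invol : ∀ a b, t3 a (t3 a b) = b := by decide +kernel

theorem adj_symm : ∀ a b, adj a b = adj b a := by decide +kernel

theorem T_zero_zero : T 0 0 = 0 := by decide +kernel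

theorem T_zero_p : ∀ a, T 0 (p a) = p a := by decide +kernel

theorem T_zero_bq : ∀ f, T 0 (bq f) = cq f ∧ T 0 (cq f) = bq f := by decide +kernel

theorem T_p_zero : ∀ a, T (p a) 0 = 0 := by decide +kernel

theorem T_p_p : ∀ a b, T (p a) (p b) = p (t3 a b) := by decide +kernel

theorem T_p_bq : ∀ a f, T (p a) (bq f) = (if dM a f then cq (tf a f) else bq (tf a f)) ∧
    T (p a) (cq f) = (if dM a f then bq (tf a f) else cq (tf a f)) := by decide +kernel

theorem tf_frame : ∀ a f k, inF (tf a f) (t3 a k) = inF f k := by decide +kernel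

theorem fr_inj : ∀ f g, fr f = fr g → f = g := by decide +kernel

theorem fr_lt : ∀ f, fr f < 2 ^ 45 := by decide +kernel

theorem fr_card : ∀ f, ((List.finRange 45).filter (inF f)).length = 18 := by decide +kernel

theorem tf_fix : ∀ a f, inF f a = true → tf a f = f := by decide +kernel

theorem tf_move : ∀ a, inF 0 a = false → tf a 0 ≠ 0 := by decide +kernel

theorem tf_inj_zero : ∀ a c, inF 0 a = false → inF 0 c = false → tf a 0 = tf c 0 → a = c := by
  decide +kernel

theorem no_triangle : ∀ a b c, inF 0 a = true → inF 0 b = true → inF 0 c = true → a ≠ b → a ≠ c →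
    b ≠ c → adj a b = true → adj a c = true → adj b c = false := by decide +kernel

/-- The path to a frame. -/
def tree (f : Fin 40) : List (Fin 45) := treeT.getD f.1 []

theorem tree_ok : ∀ f, (tree f).foldr tf 0 = f := by decide +kernel

theorem tree_zero : tree 0 = [] := by decide +kernel

theorem tree_parent : ∀ f, f = 0 ∨ ∃ a ∈ tree f, tree f = a :: tree (tf a f) ∧ tf a (tf a f) = f := by
  decide +kernel

theorem exists_toP : ∀ a : Fin 45, ((toP.getD a.1 []).foldr t3 a) = 0 := by decide +kernel

end Cfsg.Agent.Transpos.Q126
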