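import Cfsg.Agent.Lib.Transpos.QuadRack.Main
import Cfsg.Agent.Lib.Forms.QuadOrder
import Cfsg.Agent.Lib.Forms.HermCenter
import Cfsg.Agent.Lib.ClassicalSimple.UnitaryMatrix
import Cfsg.Agent.S0303

/-!
# The automorphisms of the 126 points

They number `13063680`; the orthogonal group maps onto them, and the image of its commutator group is
`PSU(4, 3)`, with trivial centraliser among all permutations.
-/

set_option autoImplicit false
set_option maxRecDepth 100000
set_option Elab.async false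

namespace Cfsg.Agent.Transpos.Q126

open O6 (adj I6)
open scoped Matrix

/-- The form. -/
abbrev Q3 : (I6 → ZMod 3) → ZMod 3 := Cfsg.quadFormMinus 2 (ZMod 3) 0 1

/-- The polar form. -/
def pol (v w : I6 → ZMod 3) : ZMod 3 := Q3 (v + w) - Q3 v - Q3 w

/-- The vector of a point. -/
def vec (i : Fin 126) : I6 → ZMod 3 := fun x => (((vecT.getD i.1 0 / 3 ^ O6.enc x) % 3 : ℕ) : ZMod 3)

/-- Six points giving a basis. -/
def baseP (k : Fin 6) : Fin 126 := Fin.ofNat 126 ([0, 1, 2, 4, 10, 17].getD k.1 0)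

/-- The coefficients of the standard vectors in that basis. -/
def cfT : List (List ℕ) := [[0, 1, 2, 0, 0, 1], [0, 1, 0, 0, 1, 0], [0, 2, 1, 0, 0, 0], [0, 2, 0, 1, 0, 0], [1, 0, 0, 0, 0, 0], [0, 1, 0, 0, 0, 0]]

/-- Coefficients. -/
def coef (x : I6) (k : Fin 6) : ZMod 3 := (((cfT.getD (O6.enc x) []).getD k.1 0 : ℕ) : ZMod 3)

/-- Even words moving the first point to each point. -/
def evenT : List (Fin 126 × Fin 126) :=
  [(119, 62), (115, 53), (110, 53), (123, 50), (125, 50), (84, 50), (120, 50), (122, 50), (81, 50), (123, 47),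
    (125, 47), (84, 47), (120, 47), (122, 47), (81, 47), (90, 47), (93, 46), (106, 46), (119, 46), (111, 46),
    (97, 46), (110, 46), (102, 46), (115, 46), (101, 46), (92, 47), (99, 46), (103, 46), (116, 46), (117, 46),
    (94, 46), (107, 46), (108, 46), (112, 46), (98, 46), (51, 47), (96, 46), (109, 46), (113, 46), (114, 46),
    (100, 46), (104, 46), (105, 46), (118, 46), (95, 46), (86, 0), (87, 0), (88, 0), (89, 0), (90, 0),
    (91, 0), (92, 0), (93, 0), (94, 0), (95, 0), (96, 0), (97, 0), (98, 0), (99, 0), (100, 0),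
    (101, 0), (102, 0), (103, 0), (104, 0), (105, 0), (106, 0), (107, 0), (108, 0), (109, 0), (110, 0),
    (111, 0), (112, 0), (113, 0), (114, 0), (115, 0), (116, 0), (117, 0), (118, 0), (119, 0), (120, 0),
    (121, 0), (122, 0), (123, 0), (124, 0), (125, 0), (46, 0), (47, 0), (48, 0), (49, 0), (50, 0),
    (51, 0), (52, 0), (53, 0), (54, 0), (55, 0), (56, 0), (57, 0), (58, 0), (59, 0), (60, 0),
    (61, 0), (62, 0), (63, 0), (64, 0), (65, 0), (66, 0), (67, 0), (68, 0), (69, 0), (70, 0),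
    (71, 0), (72, 0), (73, 0), (74, 0), (75, 0), (76, 0), (77, 0), (78, 0), (79, 0), (80, 0),
    (81, 0), (82, 0), (83, 0), (84, 0), (85, 0)]

theorem vec_norm : ∀ i, Q3 (vec i) = 1 := by decide +kernel

theorem vec_surj : ∀ v : I6 → ZMod 3, Q3 v = 1 → ∃ i, vec i = v ∨ vec i = -v := by decide +kernel

theorem vec_inj : ∀ i j, vec i = vec j ∨ vec i = -vec j → i = j := by decide +kernel

theorem vec_T : ∀ i j, vec (T i j) = vec j - pol (vec i) (vec j) • vec i ∨
    vec (T i j) = -(vec j - pol (vec i) (vec j) • vec i) := by decide +kernel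

theorem vec_basis : ∀ x y, ∑ k, coef x k * vec (baseP k) y = if x = y then 1 else 0 := by decide +kernel

theorem pol_path : ∀ j, ∃ k, pol (vec 0) (vec k) ≠ 0 ∧ pol (vec k) (vec j) ≠ 0 := by decide +kernel

theorem p_moved : ∀ w, w ≠ 0 → ∃ a b, T (p a) (T (p b) w) ≠ w := by decide +kernel

theorem even_ok : ∀ j, j = 0 ∨ ∃ e ∈ evenT, T e.1 (T e.2 0) = j := by decide +kernel

theorem common_far : ∀ i j, ∃ k, T i k ≠ k ∧ T k j ≠ j := by decide +kernel

end Cfsg.Agent.Transpos.Q126
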